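import Cfsg.Agent.OddHalf.D4.Spor.LatFour_m3
import Cfsg.Agent.OddHalf.Small.Plug
import Cfsg.Agent.OddHalf.Iface
import Cfsg.Agent.OddHalf.Soft
import Cfsg.Agent.OddHalf.D0
import Cfsg.Agent.KFacts.MM.OutC_m3
import Cfsg.Agent.OddHalf.D5.DblClean_m3
import Cfsg.Agent.OddHalf.Small.Mathieu
import Cfsg.Agent.OddHalf.Small.RankOne
import Mathlib
import Cfsg.Agent.OddHalf.D4.Spor.MTwentyFour_m3
import Cfsg.Agent.KFacts.RgdOwn_m3
import Cfsg.Agent.KFacts.SLRow.OmegaPlus_m3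
import Cfsg.Agent.Nodes.KindBC
import Cfsg.Agent.KFacts.Co1.CaseM_m3
import Cfsg.Agent.KFacts.SuzSheetM
import Cfsg.Agent.OddHalf.Small.Alt
import Cfsg.Agent.S0282
import Cfsg.Agent.OddHalf.Small.PslChar
import Cfsg.Agent.WeakTI.BenderModel_m3
import Cfsg.Agent.S1179
import Cfsg.Agent.FastGrp
import Cfsg.Agent.Prune
set_option linter.all false

section
prune_inst 0x7ffdfefbfdb97fffffff7e7ffffbdfffb9d3dfffeffffdcbffecebffbfff230cade5abad8de0d0ff1ff7623410b87853fb7eeeffe36bdc7ffffd5ff45ffbee1ff5f7bd0951f78c340fbc2fffe3f17fce7f3fffffffffffffffffffffffffffbeffffffffffff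

-- part: OddHalf/D8/HS/Elim
section
set_option linter.all false
open scoped Cfsg.Agent.FastGrp

/-!
# ODD half: no involution centralizer has a generalized Fitting subgroup of symplectic type that is not
extraspecial (helper970)

S1758 is used as a hypothesis (`P1758`, its exact form).
-/

set_option autoImplicit false
set_option linter.style.haveILetI false

namespace Cfsg.Agent.OddHalf.D8.HS.Elim

open Subgroup Cfsg Cfsg.Agent.OddHalf.Iface

universe u

/-- S1758 -/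
def P1758 : Prop :=
  ∀ (G : Type u) [Group G] [Finite G] [IsSimpleGroup G], ¬ IsMulCommutative G → ∀ z : G, orderOf z = 2 →
    Cfsg.IsOfSymplecticType ↥(Cfsg.generalizedFittingSubgroup ↥(Subgroup.centralizer ({z} : Set G))) →
    Cfsg.IsExtraspecial 2 ↥(Cfsg.generalizedFittingSubgroup ↥(Subgroup.centralizer ({z} : Set G))) ∨
      (QuotientGroup.mk' (Cfsg.oddCore G) z ∈ Subgroup.center (G ⧸ Cfsg.oddCore G)) ∨
      (∃ (F : Type) (_ : Field F) (_ : Fintype F), ((∃ n : ℕ, Fintype.card F = 2 ^ n + 1) ∨ (∃ n : ℕ, Fintype.card F + 1 = 2 ^ n)) ∧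
        Nonempty (G ≃* Matrix.ProjectiveSpecialLinearGroup (Fin 2) F)) ∨
      Cfsg.Spor.IsoM11 G ∨
      (∃ (F : Type) (_ : Field F) (_ : Fintype F), Fintype.card F = 3 ∧ Nonempty (G ≃* Matrix.ProjectiveSpecialLinearGroup (Fin 3) F)) ∨
      (∃ (F : Type) (_ : Field F) (_ : Fintype F), Fintype.card F = 9 ∧ Nonempty (G ≃* Cfsg.PSU 3 F 3)) ∨
      Cfsg.Spor.IsoHS G

/-- **Symplectic type implies extraspecial** in a counterexample to S1765. -/
theorem false_of_symplectic (R : Small.Excl.Rows) (h58 : P1758.{u}) {G : Type u} [Group G] (C : Ctx G) {z : G}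
    (hz : orderOf z = 2)
    (hs : Cfsg.IsOfSymplecticType ↥(Cfsg.generalizedFittingSubgroup ↥(centralizer ({z} : Set G))))
    (he : ¬ Cfsg.IsExtraspecial 2 ↥(Cfsg.generalizedFittingSubgroup ↥(centralizer ({z} : Set G)))) : False := by
  haveI := C.fin
  haveI := C.simple
  rcases h58 G C.na z hz hs with h | h | ⟨F, _, _, hF, ⟨e⟩⟩ | h | ⟨F, _, _, hF, ⟨e⟩⟩ | ⟨F, _, _, hF, ⟨e⟩⟩ | h
  · exact he h
  · have hO : oddCore G = ⊥ := Soft.oddCore_eq_bot (Soft.even_of_rank C.rank3)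
    have h1 : z ∈ center G := by
      rw [mem_center_iff]
      intro g
      have h2 := mem_center_iff.1 h (QuotientGroup.mk' (oddCore G) g)
      rw [← map_mul, ← map_mul] at h2
      have h3 : (g * z)⁻¹ * (z * g) ∈ oddCore G := QuotientGroup.eq.1 h2
      rw [hO, mem_bot, inv_mul_eq_one] at h3
      exact h3
    rw [Soft.center_eq_bot C.na, mem_bot] at h1
    rw [h1, orderOf_one] at hz
    exact absurd hz (by norm_num)
  · rcases Nat.even_or_odd (Fintype.card F) with hev | ho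
    · exact C.notTwo (Small.L2.psl2_even hev e)
    · rcases Nat.lt_or_ge (Fintype.card F) 4 with h4 | h4
      · have := Small.Plug.one_lt F
        obtain ⟨k, hk⟩ := ho
        have h3 : Fintype.card F = 3 := by omega
        refine C.notTwo (Small.L2.psl2 (Or.inl ⟨?_, Or.inl ⟨2, ?_⟩⟩) e)
        · rw [h3]; exact Nat.prime_three
        · omega
      · exact C.nc (Small.Plug.concl_of_lieOdd R C.notTwo (Small.Plug.lieOdd_psl F ho le_rfl (fun _ => h4) ⟨e⟩))
  · exact C.notTwo (Small.M11.charTwo_of_iso h)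
  · exact C.notTwo (Small.Generic.isCharacteristicTwoType_congr e.symm (R.l33 F hF))
  · exact C.notTwo (Small.Generic.isCharacteristicTwoType_congr e.symm (R.u33 F hF))
  · apply C.nc
    unfold Iface.Concl Small.Excl.Concl
    tauto

end Cfsg.Agent.OddHalf.D8.HS.Elim
end

-- part: OddHalf/D5/SixAut/SymList
section
set_option linter.all false
open scoped Cfsg.Agent.FastGrp

/-!
# ODD D5, `n = 6`, `C_G(x)/⟨x⟩ = Aut(A_6)`: the case "symplectic type", part 3

`sym_false_of`: `Ctx G`, `SymT x z`, `SymHyp z` is impossible, given the listed theorems S1758, S1759, S1762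
(`SymListed`) and the rows of characteristic 2 type (`SymRows`).
-/

set_option autoImplicit false

namespace Cfsg.Agent.OddHalf.D5.SixAut

open Subgroup Cfsg
open Cfsg.Agent.OddHalf.Small

universe u

/-- the listed theorems -/
structure SymListed : Prop where
  s1758 : ∀ (G : Type u) [Group G] [Finite G] [IsSimpleGroup G]
    (_ : ¬ IsMulCommutative G) (z : G) (_ : orderOf z = 2) (_ : Cfsg.IsOfSymplecticType ↥(Cfsg.generalizedFittingSubgroup ↥(Subgroup.centralizer ({z} : Set G)))),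
    Cfsg.IsExtraspecial 2 ↥(Cfsg.generalizedFittingSubgroup ↥(Subgroup.centralizer ({z} : Set G))) ∨
      (QuotientGroup.mk' (Cfsg.oddCore G) z ∈ Subgroup.center (G ⧸ Cfsg.oddCore G)) ∨
      (∃ (F : Type) (_ : Field F) (_ : Fintype F), ((∃ n : ℕ, Fintype.card F = 2 ^ n + 1) ∨ (∃ n : ℕ, Fintype.card F + 1 = 2 ^ n)) ∧
        Nonempty (G ≃* Matrix.ProjectiveSpecialLinearGroup (Fin 2) F)) ∨
      Cfsg.Spor.IsoM11 G ∨
      (∃ (F : Type) (_ : Field F) (_ : Fintype F), Fintype.card F = 3 ∧ Nonempty (G ≃* Matrix.ProjectiveSpecialLinearGroup (Fin 3) F)) ∨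
      (∃ (F : Type) (_ : Field F) (_ : Fintype F), Fintype.card F = 9 ∧ Nonempty (G ≃* Cfsg.PSU 3 F 3)) ∨
      Cfsg.Spor.IsoHS G
  s1759 : ∀ (G : Type u) [Group G] [Finite G] (z : G) (_ : orderOf z = 2) (_ : Cfsg.IsOfSymplecticType ↥(Cfsg.generalizedFittingSubgroup ↥(Subgroup.centralizer ({z} : Set G)))) (_ : Cfsg.IsExtraspecial 2 ↥(Cfsg.generalizedFittingSubgroup ↥(Subgroup.centralizer ({z} : Set G))))
    (_ : Nat.card ↥(Cfsg.generalizedFittingSubgroup ↥(Subgroup.centralizer ({z} : Set G))) = 32) (_ : IsSimpleGroup ↥(Cfsg.generalizedFittingSubgroup G))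
    (_ : ¬ IsMulCommutative ↥(Cfsg.generalizedFittingSubgroup G)),
    (∃ (F : Type) (_ : Field F) (_ : Fintype F), Fintype.card F = 9 ∧ (Nonempty (↥(Cfsg.generalizedFittingSubgroup G) ≃* Cfsg.PSU 3 F 3) ∨ Nonempty (↥(Cfsg.generalizedFittingSubgroup G) ≃* Cfsg.PSU 4 F 3))) ∨
      (∃ (F : Type) (_ : Field F) (_ : Fintype F), Fintype.card F = 4 ∧ Nonempty (↥(Cfsg.generalizedFittingSubgroup G) ≃* Cfsg.PSU 4 F 2)) ∨
      (∃ (F : Type) (_ : Field F) (_ : Fintype F), Fintype.card F = 3 ∧ (Nonempty (↥(Cfsg.generalizedFittingSubgroup G) ≃* Matrix.ProjectiveSpecialLinearGroup (Fin 4) F) ∨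
        Nonempty (↥(Cfsg.generalizedFittingSubgroup G) ≃* ↥(Cfsg.Lie.chevG2.group F)))) ∨
      Nonempty (↥(Cfsg.generalizedFittingSubgroup G) ≃* ↥(alternatingGroup (Fin 8))) ∨
      Nonempty (↥(Cfsg.generalizedFittingSubgroup G) ≃* ↥(alternatingGroup (Fin 9))) ∨
      Cfsg.Spor.IsoM12 ↥(Cfsg.generalizedFittingSubgroup G) ∨ Cfsg.Spor.IsoJ2 ↥(Cfsg.generalizedFittingSubgroup G) ∨
      Cfsg.Spor.IsoJ3 ↥(Cfsg.generalizedFittingSubgroup G)
  s1762 : ∀ (G : Type u) [Group G] [Finite G] [IsSimpleGroup G]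
    (_ : ¬ IsMulCommutative G) (z : G) (_ : orderOf z = 2) (_ : Cfsg.IsOfSymplecticType ↥(Cfsg.generalizedFittingSubgroup ↥(Subgroup.centralizer ({z} : Set G)))) (_ : Cfsg.IsExtraspecial 2 ↥(Cfsg.generalizedFittingSubgroup ↥(Subgroup.centralizer ({z} : Set G)))) (_ : Nat.card ↥(Cfsg.generalizedFittingSubgroup ↥(Subgroup.centralizer ({z} : Set G))) = 2 ^ 7),
    (∃ (F : Type) (_ : Field F) (_ : Fintype F), Fintype.card F = 2 ∧ Nonempty (G ≃* Matrix.ProjectiveSpecialLinearGroup (Fin 5) F)) ∨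
      (∃ (F : Type) (_ : Field F) (_ : Fintype F), Fintype.card F = 4 ∧ Nonempty (G ≃* Cfsg.PSU 5 F 2)) ∨
      Cfsg.Spor.IsoM24 G ∨ Cfsg.Spor.IsoHe G ∨ Cfsg.Spor.IsoSuz G

/-- the rows of characteristic 2 type -/
structure SymRows : Prop where
  rows : Excl.Rows
  psl : ∀ (G : Type u) [Group G] [Finite G] [IsSimpleGroup G], (∃ a b : G, a * b ≠ b * a) → IsPSLChar 2 G →
    IsCharacteristicTwoType G
  psu : ∀ (G : Type u) [Group G] [Finite G] [IsSimpleGroup G], (∃ a b : G, a * b ≠ b * a) → IsPSUChar 2 G →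
    IsCharacteristicTwoType G
  j3 : ∀ (G : Type u) [Group G] [Finite G], Spor.IsoJ3 G → IsCharacteristicTwoType G
  m24 : ∀ (G : Type u) [Group G] [Finite G], Spor.IsoM24 G → IsCharacteristicTwoType G

theorem charP_two_of_card {F : Type} [Field F] [Fintype F] {n : ℕ} (hn : n ≠ 0) (hF : Fintype.card F = 2 ^ n) :
    CharP F 2 := by
  refine CharTwo.of_one_ne_zero_of_two_eq_zero one_ne_zero ?_
  have h3 : ((Fintype.card F : ℕ) : F) = 0 := Nat.cast_card_eq_zero F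
  rw [hF, Nat.cast_pow, Nat.cast_ofNat] at h3
  exact (pow_eq_zero_iff hn).1 h3

variable {G : Type u} [Group G]

/-- the list of S1759, for `G` itself -/
def List32 (X : Type u) [Group X] : Prop :=
    (∃ (F : Type) (_ : Field F) (_ : Fintype F), Fintype.card F = 9 ∧ (Nonempty (X ≃* Cfsg.PSU 3 F 3) ∨ Nonempty (X ≃* Cfsg.PSU 4 F 3))) ∨
      (∃ (F : Type) (_ : Field F) (_ : Fintype F), Fintype.card F = 4 ∧ Nonempty (X ≃* Cfsg.PSU 4 F 2)) ∨
      (∃ (F : Type) (_ : Field F) (_ : Fintype F), Fintype.card F = 3 ∧ (Nonempty (X ≃* Matrix.ProjectiveSpecialLinearGroup (Fin 4) F) ∨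
        Nonempty (X ≃* ↥(Cfsg.Lie.chevG2.group F)))) ∨
      Nonempty (X ≃* ↥(alternatingGroup (Fin 8))) ∨
      Nonempty (X ≃* ↥(alternatingGroup (Fin 9))) ∨
      Cfsg.Spor.IsoM12 X ∨ Cfsg.Spor.IsoJ2 X ∨ Cfsg.Spor.IsoJ3 X

theorem list32_congr {X Y : Type u} [Group X] [Group Y] (e : X ≃* Y) (h : List32 X) : List32 Y := by
  rcases h with ⟨F, i1, i2, hF, ⟨⟨f⟩⟩ | ⟨⟨f⟩⟩⟩ | ⟨F, i1, i2, hF, ⟨f⟩⟩ | ⟨F, i1, i2, hF, ⟨⟨f⟩⟩ | ⟨⟨f⟩⟩⟩ | ⟨⟨f⟩⟩ | ⟨⟨f⟩⟩ |
    h | h | h
  · exact Or.inl ⟨F, i1, i2, hF, Or.inl ⟨e.symm.trans f⟩⟩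
  · exact Or.inl ⟨F, i1, i2, hF, Or.inr ⟨e.symm.trans f⟩⟩
  · exact Or.inr (Or.inl ⟨F, i1, i2, hF, ⟨e.symm.trans f⟩⟩)
  · exact Or.inr (Or.inr (Or.inl ⟨F, i1, i2, hF, Or.inl ⟨e.symm.trans f⟩⟩))
  · exact Or.inr (Or.inr (Or.inl ⟨F, i1, i2, hF, Or.inr ⟨e.symm.trans f⟩⟩))
  · exact Or.inr (Or.inr (Or.inr (Or.inl ⟨e.symm.trans f⟩)))
  · exact Or.inr (Or.inr (Or.inr (Or.inr (Or.inl ⟨e.symm.trans f⟩))))
  · iterate 5 right
    left
    obtain ⟨f⟩ := h
    exact ⟨e.symm.trans f⟩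
  · iterate 6 right
    left
    obtain ⟨f⟩ := h
    exact ⟨e.symm.trans f⟩
  · iterate 7 right
    obtain ⟨F, i1, i2, w, h1, h2, ⟨f⟩⟩ := h
    exact ⟨F, i1, i2, w, h1, h2, ⟨e.symm.trans f⟩⟩

theorem exists_nc (hC : Iface.Ctx G) : ∃ a b : G, a * b ≠ b * a := by
  by_contra hno
  push Not at hno
  exact hC.na ⟨⟨fun a b => hno a b⟩⟩

theorem list32_false (R : SymRows.{u}) (hC : Iface.Ctx G) (h : List32 G) : False := by
  have := hC.fin
  have := hC.simple
  have h2 := hC.notTwo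
  apply hC.nc
  rcases h with ⟨F, _, _, hF, e | e⟩ | ⟨F, _, _, hF, e⟩ | ⟨F, _, _, hF, e | e⟩ | e | e | h | h | h
  · exact Plug.concl_of_lieOdd R.rows h2 (Plug.lieOdd_psu F (q := 3) (by rw [hF]; norm_num) (by decide) le_rfl e)
  · exact Plug.concl_of_lieOdd R.rows h2 (Plug.lieOdd_psu F (q := 3) (by rw [hF]; norm_num) (by decide) (by norm_num) e)
  · exfalso
    have hch : CharP F 2 := charP_two_of_card (n := 2) (by norm_num) (by rw [hF]; norm_num)
    refine h2 (R.psu G (exists_nc hC) ?_)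
    exact ⟨F, inferInstance, inferInstance, hch, 4, 2, by rw [hF]; norm_num, by norm_num, by norm_num, e⟩
  · exact Plug.concl_of_lieOdd R.rows h2 (Plug.lieOdd_psl F (by rw [hF]; decide) (by norm_num)
      (fun h => absurd h (by norm_num)) e)
  · exact Plug.concl_of_lieOdd R.rows h2 (Plug.lieOdd_g2 F (by rw [hF]; decide) e)
  · exact absurd (Alt.result (Or.inr (Or.inr rfl)) e) h2
  · exact Plug.concl_alt (Or.inr le_rfl) e
  · exact Plug.concl_m12 h
  · exact Plug.concl_j2 h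
  · exact absurd (R.j3 G h) h2

theorem list128_false (R : SymRows.{u}) (hC : Iface.Ctx G) (h : (∃ (F : Type) (_ : Field F) (_ : Fintype F), Fintype.card F = 2 ∧ Nonempty (G ≃* Matrix.ProjectiveSpecialLinearGroup (Fin 5) F)) ∨
      (∃ (F : Type) (_ : Field F) (_ : Fintype F), Fintype.card F = 4 ∧ Nonempty (G ≃* Cfsg.PSU 5 F 2)) ∨
      Cfsg.Spor.IsoM24 G ∨ Cfsg.Spor.IsoHe G ∨ Cfsg.Spor.IsoSuz G) : False := by
  have := hC.fin
  have := hC.simple
  have h2 := hC.notTwo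
  apply hC.nc
  rcases h with ⟨F, _, _, hF, e⟩ | ⟨F, _, _, hF, e⟩ | h | h | h
  · exfalso
    have hch : CharP F 2 := charP_two_of_card (n := 1) (by norm_num) (by rw [hF]; norm_num)
    refine h2 (R.psl G (exists_nc hC) ?_)
    exact ⟨F, inferInstance, inferInstance, hch, 5, by norm_num, by norm_num, e⟩
  · exfalso
    have hch : CharP F 2 := charP_two_of_card (n := 2) (by norm_num) (by rw [hF]; norm_num)
    refine h2 (R.psu G (exists_nc hC) ?_)
    exact ⟨F, inferInstance, inferInstance, hch, 5, 2, by rw [hF]; norm_num, by norm_num, by norm_num, e⟩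
  · exact absurd (R.m24 G h) h2
  · exact Plug.concl_he h
  · unfold Iface.Concl Excl.Concl
    iterate 10 right
    exact Or.inl h

theorem center_false (hC : Iface.Ctx G) {z : G} (hz : z ≠ 1)
    (h : QuotientGroup.mk' (Cfsg.oddCore G) z ∈ Subgroup.center (G ⧸ Cfsg.oddCore G)) : False := by
  have := hC.fin
  have := hC.simple
  have hO : oddCore G = ⊥ := Soft.oddCore_eq_bot (Soft.even_of_rank hC.rank3)
  have hzc : z ∈ center G := by
    rw [mem_center_iff] at h ⊢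
    intro g
    have h1 := h (QuotientGroup.mk' (Cfsg.oddCore G) g)
    rw [← map_mul, ← map_mul] at h1
    have h2 := QuotientGroup.eq.1 h1
    rw [hO, mem_bot, inv_mul_eq_one] at h2
    exact h2
  rcases (inferInstance : (center G).Normal).eq_bot_or_eq_top with e | e
  · rw [e, mem_bot] at hzc
    exact hz hzc
  · apply hC.na
    refine ⟨⟨fun a b => ?_⟩⟩
    have ha : b ∈ center G := by rw [e]; exact mem_top b
    exact mem_center_iff.1 ha a

/-- **the case "symplectic type"** -/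
theorem sym_false_of (R : SymRows.{u}) (L : SymListed.{u}) (hC : Iface.Ctx G) {x z : G} (hT : SymT x z)
    (hS : SymHyp z) : False := by
  have := hC.fin
  have := hC.simple
  have hf : Fact (Nat.Prime 2) := ⟨Nat.prime_two⟩
  have hz : orderOf z = 2 := orderOf_eq_prime (by rw [pow_two]; exact hT.zz) hT.z1
  have h2 := hC.notTwo
  have hQ := hS.sympl
  rcases L.s1758 G hC.na z hz hQ with hE | h | ⟨F, _, _, hF, ⟨e⟩⟩ | h | ⟨F, _, _, hF, e⟩ | ⟨F, _, _, hF, e⟩ | h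
  · -- extraspecial
    have hFF := hS.symF hT.z1 hE
    have hw : ∃ n : ℕ, 1 ≤ n ∧ Nat.card ↥(SymHyp.FF z) = 2 ^ (2 * n + 1) := by
      rw [SymHyp.card_FF]
      exact Transfer.Extraspecial.exists_card_eq Nat.prime_two hE
    rcases hT.card_F hFF hw with h32 | h128
    · rw [SymHyp.card_FF] at h32
      have h1 := L.s1759 G z hz hQ hE h32 (D0.star_simple G hC.na) (D0.star_na G hC.na)
      exact list32_false R hC (list32_congr (D0.starEquiv G hC.na) h1)
    · rw [SymHyp.card_FF] at h128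
      exact list128_false R hC (L.s1762 G hC.na z hz hQ hE h128)
  · exact center_false hC hT.z1 h
  · apply hC.nc
    rcases Nat.even_or_odd (Fintype.card F) with he | ho
    · exact absurd (L2.psl2_even he e) h2
    · rcases Nat.lt_or_ge (Fintype.card F) 4 with h4 | h4
      · have h3 : Fintype.card F = 3 := by
          have := Plug.one_lt F
          obtain ⟨k, hk⟩ := ho
          omega
        exact absurd (L2.psl2 (Or.inl ⟨by rw [h3]; exact Nat.prime_three, Or.inl ⟨2, by omega⟩⟩) e) h2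
      · exact Plug.concl_of_lieOdd R.rows h2 (Plug.lieOdd_psl F ho le_rfl (fun _ => h4) ⟨e⟩)
  · exact h2 (M11.charTwo_of_iso h)
  · exact hC.nc (Plug.concl_of_lieOdd R.rows h2 (Plug.lieOdd_psl F (by rw [hF]; decide) (by norm_num)
      (fun h => absurd h (by norm_num)) e))
  · exact hC.nc (Plug.concl_of_lieOdd R.rows h2 (Plug.lieOdd_psu F (q := 3) (by rw [hF]; norm_num) (by decide) le_rfl e))
  · apply hC.nc
    unfold Iface.Concl Excl.Concl
    iterate 7 right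
    exact Or.inl h

end Cfsg.Agent.OddHalf.D5.SixAut
end

-- part: OddHalf/Small/RowsFull
section
set_option linter.all false

/-!
# All rows of D11: `Plug.RowsTwo` and `D0.Rows0`
-/

set_option autoImplicit false
set_option linter.unusedVariables false

namespace Cfsg.Agent.OddHalf.Small.RowsFull

open Cfsg

universe u

theorem rowsTwo : Plug.RowsTwo.{u} where
  u3 G _ _ F _ _ n hn hF e := RankOne.u3 F n (by omega) hF e
  sz G _ _ h := RankOne.sz h
  m22 G _ _ h := Mathieu.m22 h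
  m23 G _ _ h := Mathieu.m23 h
  j3 G _ _ h := J3.j3 G h

end Cfsg.Agent.OddHalf.Small.RowsFull
end

-- part: KFacts/SysFree
section
prune_inst 0x100000480000000000000000000000000000000000000110400400004a10000040000000200c000008080020000000001000800020000000000000000400000028000080080100200000002000000000000000000000000000000000041000000000000
set_option linter.all false
open scoped Cfsg.Agent.FastGrp

/-!
# `BFacts` for `Sys` (ODD, D4, free pairs): (k0), (k1), (k2), (k4), (c1)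

`Y` with `Sys R e`, the symmetries of the diagram preserve the Cartan matrix (`hA`) and fix the dominant roots (`hdom`).
-/

set_option autoImplicit false
set_option linter.unusedSectionVars false

namespace Cfsg.Agent.KFacts.SysFree

open CoxeterSystem Cfsg.Agent.ChevalleyStructure.CoxeterGeom Cfsg.Agent.Tits.Roots Cfsg.Agent.Tits.Core
  Cfsg.Agent.Tits.Exchange Cfsg.Agent.Nodes.Reps Cfsg.Agent.Nodes.BNOf Cfsg.Agent.Nodes.StabComb
  Cfsg.Agent.Nodes.Bruhat Cfsg.Agent.Nodes.OppDec Cfsg.Agent.Nodes.LeviDec Cfsg.Agent.Nodes.NormalForm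
  Cfsg.Agent.Nodes.Coroot Cfsg.Agent.Nodes.PosPair Cfsg.Agent.KFacts.RgdPar Cfsg.Agent.KFacts.RgdTI
  Cfsg.Agent.KFacts.RgdOpp Cfsg.Agent.KFacts.RgdAut Cfsg.Agent.KFacts.RgdDiag Cfsg.Agent.KFacts.RgdRigid
  Cfsg.Agent.KFacts.RgdCent Cfsg.Agent.KFacts.RgdKap Cfsg.Agent.KFacts.RgdField Cfsg.Agent.KFacts.RgdTau
  Cfsg.Agent.KFacts.RgdSys Cfsg.Agent.KFacts.RgdOver Cfsg.Agent.KFacts.RgdPure Cfsg.Agent.KFacts.ChevTwo
  Cfsg.Agent.KFacts.SysOut Cfsg.Agent.KFacts.SysLine Cfsg.Agent.KFacts.SysFlt Cfsg.Agent.KFacts.SLRow.Diag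
  Cfsg.Agent.OddHalf.D4.Free Cfsg.Agent.OddHalf.D4.Basic
open scoped commutatorElement

variable {I W Y K : Type*} [Fintype I] [DecidableEq I] [Group W] [Group Y] [Field K] {M : CoxeterMatrix I}
variable {cs : CoxeterSystem M W} {A : I → I → ℤ} {h : IsCartan M A} {e : (I → ℤ) → K → Y}
  {p : ℕ} {T : Subgroup Y} {n : I → Y} {X : (I → ℤ) → Subgroup Y}

/-! ### Dominant roots -/

theorem star_pos [Finite W] {r : I → ℤ} (hr : r ∈ Star cs h (RGD.Pos cs h)) : r ∈ RGD.Pos cs h := by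
  refine ⟨hr.1, ?_⟩
  rcases hr.1.pos_or_neg with h1 | h1
  · exact h1
  · have h2 := hr.2 (-r) ⟨hr.1.neg, neg_nonneg.2 h1⟩
    rw [cpr_neg_right cs h _ hr.1, cpr_self cs h hr.1] at h2
    omega

/-- a dominant root exists -/
theorem exists_star [Finite W] [Nonempty I] : ∃ r, r ∈ Star cs h (RGD.Pos cs h) := by
  obtain ⟨i⟩ := ‹Nonempty I›
  have hfin : (RGD.Pos cs h).Finite := (RGD.finite_roots (cs := cs) (h := h)).subset fun x hx => hx.1
  obtain ⟨r, hr, hmax⟩ := Set.exists_max_image (RGD.Pos cs h) ht hfin ⟨sr i, isRoot_sr cs h i, sr_nonneg i⟩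
  refine ⟨r, hr.1, fun a ha => ?_⟩
  by_contra hneg
  push Not at hneg
  have h1 := isRoot_refl cs h hr.1 ha.1
  have h2 : ht (r - cpr cs h r a • a) = ht r - cpr cs h r a * ht a := by
    rw [sub_eq_add_neg, ← neg_smul, ht_add, ht_smul]; ring
  have h3 := ht_pos hr
  have h4 := ht_pos ha
  have h5 : 0 < -cpr cs h r a * ht a := mul_pos (by omega) h4
  have h6 : 0 < ht (r - cpr cs h r a • a) := by rw [h2]; linarith
  have h7 : r - cpr cs h r a • a ∈ RGD.Pos cs h := by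
    refine ⟨h1, ?_⟩
    rcases h1.pos_or_neg with h8 | h8
    · exact h8
    · exfalso
      have h9 : ht (-(r - cpr cs h r a • a)) = -ht (r - cpr cs h r a • a) := by
        have := ht_smul (-1) (r - cpr cs h r a • a)
        rw [neg_smul, one_smul] at this
        rw [this]; ring
      have h10 : 0 ≤ ht (-(r - cpr cs h r a • a)) := by
        have h11 := ht_pos (cs := cs) (h := h) (x := -(r - cpr cs h r a • a)) ⟨h1.neg, neg_nonneg.2 h8⟩
        omega
      omega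
  have h8 := hmax _ h7
  rw [h2] at h8
  linarith

section Cent

variable [Finite W] {R : RGD cs h p T n X} (S : Sys R e)

include S

/-- the dominant root groups are central in `U` -/
theorem star_comm_U {r : I → ℤ} (hr : r ∈ Star cs h (RGD.Pos cs h)) {v u : Y} (hv : v ∈ X r)
    (hu : u ∈ RGD.Sup X (RGD.Pos cs h)) : u * v = v * u := by
  have h1 : RGD.Sup X (RGD.Pos cs h) ≤ Subgroup.centralizer ({v} : Set Y) := by
    refine RGD.Sup_le fun a ha w hw => ?_
    rw [Subgroup.mem_centralizer_singleton_iff]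
    exact ((S.lr ha.1).comm r hr.1 (hr.2 a ha) v hv w hw).symm
  exact Subgroup.mem_centralizer_singleton_iff.1 (h1 hu)

theorem center_le (hG1 : RGD.Sup X {x | IsRoot cs h x} = ⊤) (hN : NoCent cs h T X) [Nonempty I]
    (hconn : ∀ J : Set I, J.Nonempty → J ≠ Set.univ → ∃ a ∈ J, ∃ b, b ∉ J ∧ M a b ≠ 2) {c : Y}
    (hc : ∀ u ∈ RGD.Sup X (RGD.Pos cs h), u * c = c * u) : c ∈ RGD.Sup X (Star cs h (RGD.Pos cs h)) :=
  RgdAutFacts.center_U R (fun _ ha => S.lr ha) hN hconn (by rw [GG_eq_top hG1]; trivial) fun _ ha _ hv =>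
    (hc _ (RGD.le_Sup ha hv)).symm

/-- **(k0)** -/
theorem star_sq {c : Y} (hc : c ∈ RGD.Sup X (Star cs h (RGD.Pos cs h))) : c * c = 1 := by
  have hle : RGD.Sup X (Star cs h (RGD.Pos cs h)) ≤ RGD.Sup X (RGD.Pos cs h) := RGD.Sup_mono fun _ hx => star_pos hx
  have hcomm : ∀ r ∈ Star cs h (RGD.Pos cs h), ∀ v ∈ X r, ∀ w ∈ RGD.Sup X (Star cs h (RGD.Pos cs h)),
      v * w = w * v := fun r hr v hv w hw => (star_comm_U S hr hv (hle hw)).symm
  let L : Subgroup Y :=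
    { carrier := {y | y ∈ RGD.Sup X (Star cs h (RGD.Pos cs h)) ∧ y * y = 1 ∧
        ∀ w ∈ RGD.Sup X (Star cs h (RGD.Pos cs h)), y * w = w * y}
      one_mem' := ⟨one_mem _, mul_one 1, fun w _ => by rw [one_mul, mul_one]⟩
      mul_mem' := by
        rintro a b ⟨ha, ha2, hac⟩ ⟨hb, hb2, hbc⟩
        refine ⟨mul_mem ha hb, ?_, fun w hw => by rw [mul_assoc, hbc w hw, ← mul_assoc, hac w hw, mul_assoc]⟩
        calc a * b * (a * b) = a * (b * a) * b := by group
          _ = (a * a) * (b * b) := by rw [hbc a ha]; group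
          _ = 1 := by rw [ha2, hb2, one_mul]
      inv_mem' := by
        rintro a ⟨ha, ha2, hac⟩
        have : a⁻¹ = a := inv_eq_of_mul_eq_one_right ha2
        rw [this]
        exact ⟨ha, ha2, hac⟩ }
  have hL : RGD.Sup X (Star cs h (RGD.Pos cs h)) ≤ L := by
    refine RGD.Sup_le fun r hr v hv => ⟨RGD.le_Sup hr hv, ?_, fun w hw => hcomm r hr v hv w hw⟩
    obtain ⟨a, rfl⟩ := (S.mem_X r hr.1 v).1 hv
    exact S.data.sq hr.1 a
  exact (hL hc).2.1

/-- elements normalising a root group act on it by a scalar -/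
theorem scalar_of_norm (hG1 : RGD.Sup X {x | IsRoot cs h x} = ⊤) {r : I → ℤ} (hr : IsRoot cs h r) {y : Y}
    (hy : cj y (X r) = X r) : ∃ c : K, ∀ t, y * e r t * y⁻¹ = e r (c * t) := by
  have h1 : y ∈ PS T X (Ge cs h r) := by
    rw [← (S.lr hr).normalizer, GG_eq_top hG1]
    exact Subgroup.mem_inf.2 ⟨mem_normalizer_iff_cj.2 hy, Subgroup.mem_top _⟩
  let L : Subgroup Y :=
    { carrier := {y | (∃ c : K, ∀ t, y * e r t * y⁻¹ = e r (c * t)) ∧ ∃ c : K, ∀ t, y⁻¹ * e r t * y = e r (c * t)}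
      one_mem' := ⟨⟨1, fun t => by rw [one_mul, one_mul, inv_one, mul_one]⟩,
        ⟨1, fun t => by rw [one_mul, inv_one, one_mul, mul_one]⟩⟩
      mul_mem' := by
        rintro a b ⟨⟨c, hc⟩, d, hd⟩ ⟨⟨c', hc'⟩, d', hd'⟩
        refine ⟨⟨c * c', fun t => ?_⟩, d' * d, fun t => ?_⟩
        · calc a * b * e r t * (a * b)⁻¹ = a * (b * e r t * b⁻¹) * a⁻¹ := by group
            _ = _ := by rw [hc', hc, mul_assoc]
        · calc (a * b)⁻¹ * e r t * (a * b) = b⁻¹ * (a⁻¹ * e r t * a) * b := by group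
            _ = _ := by rw [hd, hd', mul_assoc]
      inv_mem' := by
        rintro a ⟨⟨c, hc⟩, d, hd⟩
        exact ⟨⟨d, fun t => by rw [inv_inv]; exact hd t⟩, c, fun t => by rw [inv_inv]; exact hc t⟩ }
  have hL : PS T X (Ge cs h r) ≤ L := by
    refine sup_le ?_ ?_
    · intro t ht
      refine ⟨⟨_, chS_spec S hr ht⟩, chS e r t⁻¹, fun a => ?_⟩
      have := chS_spec S hr (inv_mem ht) a
      rwa [inv_inv] at this
    · intro u hu
      have h2 : ∀ t, u * e r t = e r t * u := fun t => (S.lr hr).comm' hu (S.mem hr t)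
      refine ⟨⟨1, fun t => by rw [h2, one_mul, mul_inv_cancel_right]⟩, 1, fun t => ?_⟩
      rw [mul_assoc, ← h2, one_mul, inv_mul_cancel_left]
  exact (hL h1).1

end Cent

/-! ### Action on an embedded group -/

/-- `x` acts on `f Y` as `φ`. -/
def Acts {G : Type*} [Group G] (f : Y →* G) (x : G) (φ : MulAut Y) : Prop := ∀ z, f (φ z) = x * f z * x⁻¹

section Acts

variable {G : Type*} [Group G] {f : Y →* G} {x x' : G} {φ φ' : MulAut Y}

theorem Acts.one : Acts f 1 (1 : MulAut Y) := fun z => by rw [MulAut.one_apply, one_mul, inv_one, mul_one]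

theorem Acts.mul (hx : Acts f x φ) (hx' : Acts f x' φ') : Acts f (x * x') (φ * φ') := fun z => by
  rw [MulAut.mul_apply, hx, hx']; group

theorem Acts.inv (hx : Acts f x φ) : Acts f x⁻¹ φ⁻¹ := fun z => by
  have h1 := hx (φ⁻¹ z)
  rw [MulAut.apply_inv_self] at h1
  rw [h1]; group

theorem Acts.pow (hx : Acts f x φ) (k : ℕ) : Acts f (x ^ k) (φ ^ k) := by
  induction k with
  | zero => rw [pow_zero, pow_zero]; exact Acts.one
  | succ k ih => rw [pow_succ, pow_succ]; exact ih.mul hx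

theorem Acts.unique (hf : Function.Injective f) (hx : Acts f x φ) (hx' : Acts f x φ') : φ = φ' := by
  ext z
  apply hf
  rw [hx, hx']

theorem Acts.conj (y : Y) : Acts f (f y) (MulAut.conj y) := fun z => by
  rw [MulAut.conj_apply, map_mul, map_mul, map_inv]

theorem Acts.exists_of_mem (hf : Function.Injective f) (hx : x ∈ Subgroup.normalizer (f.range : Set G)) :
    ∃ φ, Acts f x φ := ⟨act f hf ⟨x, hx⟩, fun z => f_act f hf ⟨x, hx⟩ z⟩

theorem Acts.comp (hx : Acts f x φ) (g : Y) :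
    Acts (f.comp (MulAut.conj g).toMonoidHom) x (MulAut.conj g⁻¹ * φ * MulAut.conj g) := fun z => by
  show f (g * (g⁻¹ * φ (g * z * g⁻¹) * g⁻¹⁻¹) * g⁻¹) = x * f (g * z * g⁻¹) * x⁻¹
  rw [← hx]
  congr 1
  group

theorem Acts.fix (hf : Function.Injective f) {H : Subgroup Y} (hx : Acts f x φ)
    (hxH : x ∈ Subgroup.normalizer ((H.map f : Subgroup G) : Set G)) : Fix φ H := by
  intro y
  have h1 := Subgroup.mem_normalizer_iff.1 hxH (f y)
  have h2 : ∀ z, f z ∈ H.map f ↔ z ∈ H := fun z => ⟨fun ⟨w, hw, e⟩ => hf e ▸ hw, fun hz => ⟨z, hz, rfl⟩⟩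
  rw [h2, ← hx, h2] at h1
  exact h1.symm

theorem Acts.inner {y : Y} (hx : Acts f x (MulAut.conj y)) : Inner f.range x := by
  refine ⟨x * (f y)⁻¹, ?_, f y, ⟨y, rfl⟩, by group⟩
  rw [Subgroup.mem_centralizer_iff]
  rintro _ ⟨z, rfl⟩
  have h6 := hx (y⁻¹ * z * y)
  rw [MulAut.conj_apply] at h6
  have h7 : y * (y⁻¹ * z * y) * y⁻¹ = z := by group
  rw [h7, map_mul, map_mul, map_inv] at h6
  calc f z * (x * (f y)⁻¹) = (x * ((f y)⁻¹ * f z * f y) * x⁻¹) * (x * (f y)⁻¹) := by rw [← h6]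
    _ = _ := by group

end Acts

/-! ### Good subgroups in standard position -/

theorem exists_std {G : Type*} [Group G] [Finite W] [Finite Y] {R : RGD cs h 2 T n X}
    (hG1 : RGD.Sup X {x | IsRoot cs h x} = ⊤) {f : Y →* G} (hf : Function.Injective f) {S : Subgroup G}
    (hS : Good f.range S) : ∃ g : Y, S ⊓ f.range = (RGD.Sup X (RGD.Pos cs h)).map (f.comp (MulAut.conj g).toMonoidHom) := by
  have : Fact (Nat.Prime 2) := ⟨Nat.prime_two⟩
  have hQ : IsPGroup 2 ↥((S ⊓ f.range).comap f) := hS.syl.two.comap_of_injective f hf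
  let P : Sylow 2 Y := ⟨(S ⊓ f.range).comap f, hQ, fun {Q} hQ2 hle => by
    have h1 : S ⊓ f.range ≤ Q.map f := by
      rintro x ⟨hx, y, rfl⟩
      exact ⟨y, hle ⟨hx, y, rfl⟩, rfl⟩
    have h2 := hS.syl.max (Q.map f) (hQ2.map f) h1 (by rintro _ ⟨y, -, rfl⟩; exact ⟨y, rfl⟩)
    exact le_antisymm (fun y hy => h2 ⟨y, hy, rfl⟩) hle⟩
  obtain ⟨g, hg⟩ := RgdAutFacts.sylow_eq_cj R (GG_eq_top (T := T) hG1) P
  refine ⟨g, ?_⟩
  have h1 : (S ⊓ f.range).comap f = cj g (RGD.Sup X (RGD.Pos cs h)) := hg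
  ext x
  constructor
  · rintro ⟨hx, y, rfl⟩
    have h2 : y ∈ cj g (RGD.Sup X (RGD.Pos cs h)) := by
      rw [← h1]
      exact ⟨hx, y, rfl⟩
    refine ⟨g⁻¹ * y * g, mem_cj.1 h2, ?_⟩
    show f (g * (g⁻¹ * y * g) * g⁻¹) = f y
    congr 1
    group
  · rintro ⟨u, hu, rfl⟩
    have h2 : g * u * g⁻¹ ∈ (S ⊓ f.range).comap f := by
      rw [h1]
      exact conj_mem_cj.2 hu
    exact h2

theorem range_comp_conj {G : Type*} [Group G] (f : Y →* G) (g : Y) :
    (f.comp (MulAut.conj g).toMonoidHom).range = f.range := by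
  ext x
  constructor
  · rintro ⟨y, rfl⟩
    exact ⟨g * y * g⁻¹, rfl⟩
  · rintro ⟨y, rfl⟩
    refine ⟨g⁻¹ * y * g, ?_⟩
    show f (g * (g⁻¹ * y * g) * g⁻¹) = f y
    congr 1
    group

/-- standard position of `S` -/
structure Std {G : Type*} [Group G] (cs : CoxeterSystem M W) (h : IsCartan M A) (X : (I → ℤ) → Subgroup Y)
    (K₀ S : Subgroup G) (f : Y →* G) : Prop where
  inj : Function.Injective f
  range : f.range = K₀
  two : IsPGroup 2 ↥S
  le : S ≤ Subgroup.normalizer (K₀ : Set G)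
  inf : S ⊓ K₀ = (RGD.Sup X (RGD.Pos cs h)).map f

section Std

variable {G : Type*} [Group G] {K₀ S : Subgroup G} {f : Y →* G}

theorem Std.exists_acts (D : Std cs h X K₀ S f) {x : G} (hx : x ∈ Subgroup.normalizer (K₀ : Set G)) :
    ∃ φ, Acts f x φ := Acts.exists_of_mem D.inj (by rw [D.range]; exact hx)

theorem Std.fix (D : Std cs h X K₀ S f) {x : G} (hx : x ∈ S) {φ : MulAut Y} (hφ : Acts f x φ) :
    Fix φ (RGD.Sup X (RGD.Pos cs h)) := by
  refine hφ.fix D.inj ?_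
  rw [← D.inf, Subgroup.mem_normalizer_iff]
  intro y
  rw [Subgroup.mem_inf, Subgroup.mem_inf, ← Subgroup.mem_normalizer_iff.1 (D.le hx) y]
  constructor
  · rintro ⟨h1, h2⟩
    exact ⟨mul_mem (mul_mem hx h1) (inv_mem hx), h2⟩
  · rintro ⟨h1, h2⟩
    refine ⟨?_, h2⟩
    have := mul_mem (mul_mem (inv_mem hx) h1) hx
    have h3 : x⁻¹ * (x * y * x⁻¹) * x = y := by group
    rwa [h3] at this

theorem Std.mem_zc (D : Std cs h X K₀ S f) {z : G} :
    z ∈ zc K₀ S ↔ ∃ y ∈ RGD.Sup X (RGD.Pos cs h), (∀ u ∈ RGD.Sup X (RGD.Pos cs h), u * y = y * u) ∧ f y = z := by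
  rw [Cfsg.Agent.OddHalf.D4.Free.mem_zc, ← Subgroup.mem_inf, D.inf]
  constructor
  · rintro ⟨⟨y, hy, rfl⟩, h2⟩
    exact ⟨y, hy, fun u hu => D.inj (by rw [map_mul, map_mul]; exact h2 _ ⟨u, hu, rfl⟩), rfl⟩
  · rintro ⟨y, hy, h2, rfl⟩
    refine ⟨⟨y, hy, rfl⟩, ?_⟩
    rintro _ ⟨u, hu, rfl⟩
    rw [← map_mul, ← map_mul, h2 u hu]

/-- a 2-power -/
theorem Std.exists_pow (D : Std cs h X K₀ S f) {x : G} (hx : x ∈ S) {φ : MulAut Y} (hφ : Acts f x φ) :
    ∃ k : ℕ, φ ^ 2 ^ k = 1 := by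
  obtain ⟨k, hk⟩ := D.two ⟨x, hx⟩
  have hk' : x ^ 2 ^ k = 1 := congrArg Subtype.val hk
  refine ⟨k, ?_⟩
  have h1 := hφ.pow (2 ^ k)
  rw [hk'] at h1
  exact h1.unique D.inj Acts.one

end Std

/-! ### The facts -/

/-- The outer automorphism homomorphism -/
structure IsOut {R : RGD cs h p T n X} (S : Sys R e) (l : MulAut Y →* Equiv.Perm I × (K ≃+* K)) : Prop where
  inn : ∀ y, l (MulAut.conj y) = 1
  rep : ∀ α, ∃ y β, α = MulAut.conj y * β ∧ Tau T X (chS e) A β (l α).1 (l α).2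
  tau : ∀ β σ τ, Tau T X (chS e) A β σ τ → l β = (σ, τ)
  ker : ∀ (α : MulAut Y) (k : ℕ), α ^ p ^ k = 1 → l α = 1 → ∃ y, α = MulAut.conj y

/-- The hypotheses on `Y`. -/
structure Hyp (cs : CoxeterSystem M W) {A : I → I → ℤ} (h : IsCartan M A) (T : Subgroup Y)
    (X : (I → ℤ) → Subgroup Y) : Prop where
  gen : RGD.Sup X {x | IsRoot cs h x} = ⊤
  cent : NoCent cs h T X
  conn : ∀ J : Set I, J.Nonempty → J ≠ Set.univ → ∃ a ∈ J, ∃ b, b ∉ J ∧ M a b ≠ 2
  cart : ∀ σ : Equiv.Perm I, (∀ i j, M (σ i) (σ j) = M i j) → ∀ i j, A (σ i) (σ j) = A i j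
  dom : ∀ σ : Equiv.Perm I, (∀ i j, M (σ i) (σ j) = M i j) → ∀ r ∈ Star cs h (RGD.Pos cs h), r ∘ σ.symm = r

section Facts

variable [Finite W] [Finite Y] [Finite K] [Nonempty I] [CharP K 2] {R : RGD cs h 2 T n X}
  {S : Sys R e} (H : Hyp cs h T X)
  {l : MulAut Y →* Equiv.Perm I × (K ≃+* K)} (L : IsOut S l)

theorem exists_isOut (S : Sys R e) (H : Hyp cs h T X) : ∃ l, IsOut S l := by
  have : Fact (Nat.Prime 2) := ⟨Nat.prime_two⟩
  obtain ⟨l, h1, h2, h3, h4⟩ := exists_out S H.gen H.cent H.conn H.cart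
  exact ⟨l, h1, h2, h3, h4⟩

include H L

theorem matrix_of (α : MulAut Y) : ∀ i j, M ((l α).1 i) ((l α).1 j) = M i j := by
  obtain ⟨y, β, -, B⟩ := L.rep α
  exact B.diag.matrix (R := R)

/-- frame representatives of automorphisms fixing `U` -/
theorem exists_frameU {φ : MulAut Y} (hφ : Fix φ (RGD.Sup X (RGD.Pos cs h))) :
    ∃ u ∈ RGD.Sup X (RGD.Pos cs h), Tau T X (chS e) A (MulAut.conj u * φ) (l φ).1 (l φ).2 ∧
      ∀ k : ℕ, φ ^ k = 1 → (MulAut.conj u * φ) ^ k = 1 := by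
  have : Fact (Nat.Prime 2) := ⟨Nat.prime_two⟩
  obtain ⟨u, hu, σ, τ, B, hp⟩ := exists_rep_U S H.gen H.cent H.conn H.cart hφ
  refine ⟨u, hu, ?_, hp⟩
  have h1 := L.tau _ _ _ B
  rw [map_mul, L.inn, one_mul] at h1
  rw [h1]
  exact B

/-- **An automorphism centralising a dominant root group has no field part.** -/
theorem field_of_fix {φ : MulAut Y} {r : I → ℤ} (hr : r ∈ Star cs h (RGD.Pos cs h)) (hφ : ∀ v ∈ X r, φ v = v) :
    (l φ).2 = 1 := by
  have : Fact (Nat.Prime 2) := ⟨Nat.prime_two⟩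
  obtain ⟨y, β, h1, B⟩ := L.rep φ
  obtain ⟨c, hc, hβ⟩ := Tau.root R (coords S H.gen) B hr.1
  rw [H.dom _ (matrix_of H L φ) r hr] at hβ
  have h2 : ∀ t, y * e r (c * (l φ).2 t) * y⁻¹ = e r t := by
    intro t
    have h3 := hφ _ (S.mem hr.1 t)
    have h4 : φ (e r t) = y * β (e r t) * y⁻¹ := by
      conv_lhs => rw [h1]
      rfl
    rw [h4, hβ] at h3
    exact h3
  have h3 : cj y (X r) = X r := by
    ext z
    rw [mem_cj]
    constructor
    · intro hz
      obtain ⟨a, ha⟩ := (S.mem_X r hr.1 _).1 hz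
      obtain ⟨t, ht⟩ : ∃ t, (l φ).2 t = c⁻¹ * a := ⟨(l φ).2.symm (c⁻¹ * a), RingEquiv.apply_symm_apply _ _⟩
      have h4 := h2 t
      rw [ht, mul_inv_cancel_left₀ hc, ha] at h4
      have h5 : y * (y⁻¹ * z * y) * y⁻¹ = z := by group
      rw [h5] at h4
      rw [h4]
      exact S.mem hr.1 t
    · intro hz
      obtain ⟨t, rfl⟩ := (S.mem_X r hr.1 _).1 hz
      have h4 : y⁻¹ * e r t * y = e r (c * (l φ).2 t) := by rw [← h2 t]; group
      rw [h4]
      exact S.mem hr.1 _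
  obtain ⟨d, hd⟩ := scalar_of_norm S H.gen hr.1 h3
  have h4 : ∀ t, d * (c * (l φ).2 t) = t := by
    intro t
    have h5 := h2 t
    rw [hd] at h5
    exact S.data.injective hr.1 h5
  have h5 : d * c = 1 := by
    have := h4 1
    rwa [map_one, mul_one] at this
  ext t
  have h6 := h4 t
  rw [← mul_assoc, h5, one_mul] at h6
  exact h6

/-- **A `2`-automorphism fixing `U` acts on a dominant root group by its field part.** -/
theorem act_star {φ : MulAut Y} (hφ : Fix φ (RGD.Sup X (RGD.Pos cs h))) {k : ℕ} (hk : φ ^ 2 ^ k = 1) {r : I → ℤ}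
    (hr : r ∈ Star cs h (RGD.Pos cs h)) : ∃ a₀, a₀ ≠ 0 ∧ ∀ a, φ (e r (a₀ * a)) = e r (a₀ * (l φ).2 a) := by
  have : Fact (Nat.Prime 2) := ⟨Nat.prime_two⟩
  obtain ⟨u, hu, B, hp⟩ := exists_frameU H L hφ
  obtain ⟨a₀, ha₀, h1⟩ := Tau.pure R (coords S H.gen) B (hp _ hk) hr.1 (H.dom _ (matrix_of H L φ) r hr)
  refine ⟨a₀, ha₀, fun a => ?_⟩
  have h2 := h1 a
  rw [MulAut.mul_apply, MulAut.conj_apply] at h2
  have h3 : φ (e r (a₀ * a)) = u⁻¹ * e r (a₀ * (l φ).2 a) * u := by rw [← h2]; group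
  rw [h3, mul_assoc, ← star_comm_U S hr (S.mem hr.1 _) hu, inv_mul_cancel_left]

end Facts

/-! ### (k0), (k1), (k2), (k4), (c1) -/

theorem cyclic_two {C : Type*} [Group C] [Finite C] [IsCyclic C] {a b : C} (ha : a * a = 1) (hb : b * b = 1) :
    a = 1 ∨ b = 1 ∨ a = b := by
  classical
  by_contra hcon
  push Not at hcon
  obtain ⟨h1, h2, h3⟩ := hcon
  have := Fintype.ofFinite C
  have h4 := IsCyclic.card_pow_eq_one_le (α := C) (n := 2) (by norm_num)
  have h5 : ({1, a, b} : Finset C) ⊆ Finset.univ.filter fun x : C => x ^ 2 = 1 := by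
    intro x hx
    simp only [Finset.mem_insert, Finset.mem_singleton] at hx
    rw [Finset.mem_filter]
    refine ⟨Finset.mem_univ _, ?_⟩
    rcases hx with rfl | rfl | rfl
    · exact one_pow 2
    · rw [pow_two, ha]
    · rw [pow_two, hb]
  have h6 : ({1, a, b} : Finset C).card = 3 := by
    rw [Finset.card_insert_of_notMem, Finset.card_insert_of_notMem, Finset.card_singleton]
    · simpa using h3
    · simp only [Finset.mem_insert, Finset.mem_singleton, not_or]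
      exact ⟨fun h => h1 h.symm, fun h => h2 h.symm⟩
  have h7 := Finset.card_le_card h5
  omega

section BF

variable {G : Type*} [Group G] [Finite G] {K₀ S : Subgroup G} [Finite W] [Finite K] [Nonempty I] [CharP K 2]
  {R : RGD cs h 2 T n X} {S' : Sys R e} (H : Hyp cs h T X) {l : MulAut Y →* Equiv.Perm I × (K ≃+* K)}
  (L : IsOut S' l) {f : Y →* G}

include H

theorem exists_std' (S' : Sys R e) (hf : Function.Injective f) (hK : f.range = K₀) (hS : Good K₀ S) :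
    ∃ f', Std cs h X K₀ S f' ∧ (∀ l : MulAut Y →* Equiv.Perm I × (K ≃+* K), IsOut S' l →
      ∀ x φ, Acts f x φ → ∃ φ', Acts f' x φ' ∧ l φ' = l φ) := by
  subst hK
  have hY : Finite Y := Finite.of_injective f hf
  obtain ⟨g, hg⟩ := exists_std (R := R) H.gen hf hS
  refine ⟨f.comp (MulAut.conj g).toMonoidHom, ⟨hf.comp (MulAut.conj g).injective, range_comp_conj f g, hS.two, hS.le,
    hg⟩, fun l L x φ hφ => ⟨_, hφ.comp g, ?_⟩⟩
  rw [map_mul, map_mul, L.inn, L.inn, one_mul, mul_one]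

include L

theorem Std.cz_of_field (D : Std cs h X K₀ S f) {x : G} (hx : x ∈ S) {φ : MulAut Y} (hφ : Acts f x φ)
    (hl : (l φ).2 = 1) : x ∈ cz K₀ S := by
  have hY : Finite Y := Finite.of_injective f D.inj
  rw [mem_cz]
  intro z hz
  obtain ⟨y, hy, hyc, rfl⟩ := D.mem_zc.1 hz
  obtain ⟨k, hk⟩ := D.exists_pow hx hφ
  have h1 := center_le S' H.gen H.cent H.conn hyc
  have h2 : RGD.Sup X (Star cs h (RGD.Pos cs h)) ≤ (φ.toMonoidHom).eqLocus (MonoidHom.id Y) := by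
    refine RGD.Sup_le fun r hr v hv => ?_
    obtain ⟨a, rfl⟩ := (S'.mem_X r hr.1 v).1 hv
    obtain ⟨a₀, ha₀, h3⟩ := act_star H L (D.fix hx hφ) hk hr
    have h4 := h3 (a₀⁻¹ * a)
    rw [mul_inv_cancel_left₀ ha₀, hl, RingAut.one_apply, mul_inv_cancel_left₀ ha₀] at h4
    exact h4
  have h3 : φ y = y := h2 h1
  have h4 := hφ y
  rw [h3] at h4
  calc f y * x = (x * f y * x⁻¹) * x := by rw [← h4]
    _ = x * f y := by group

theorem Std.field_of_cz (D : Std cs h X K₀ S f) {x : G} (hx : x ∈ cz K₀ S) {φ : MulAut Y} (hφ : Acts f x φ) :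
    (l φ).2 = 1 := by
  have hY : Finite Y := Finite.of_injective f D.inj
  obtain ⟨r, hr⟩ := exists_star (cs := cs) (h := h)
  refine field_of_fix H L hr fun v hv => ?_
  have hvU : v ∈ RGD.Sup X (RGD.Pos cs h) := RGD.le_Sup (star_pos hr) hv
  have h1 : f v ∈ zc K₀ S := D.mem_zc.2 ⟨v, hvU, fun u hu => star_comm_U S' hr hv hu, rfl⟩
  have h2 := mem_cz.1 hx _ h1
  apply D.inj
  rw [hφ, ← h2, mul_inv_cancel_right]

omit L

/-- **(k0)** -/
theorem k0 (S' : Sys R e) (hf : Function.Injective f) (hK : f.range = K₀) (hS : Good K₀ S) {z : G}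
    (hz : z ∈ zc K₀ S) : z * z = 1 := by
  obtain ⟨f', D, -⟩ := exists_std' H S' hf hK hS
  obtain ⟨y, hy, hyc, rfl⟩ := D.mem_zc.1 hz
  rw [← map_mul, star_sq S' (center_le S' H.gen H.cent H.conn hyc), map_one]

/-- **(k1)** -/
theorem k1 (S' : Sys R e) (hf : Function.Injective f) (hK : f.range = K₀) (hS : Good K₀ S) {a b : G}
    (ha : a ∈ S) (hb : b ∈ S) (haa : a * a ∈ cz K₀ S) (hbb : b * b ∈ cz K₀ S) :
    a ∈ cz K₀ S ∨ b ∈ cz K₀ S ∨ a⁻¹ * b ∈ cz K₀ S := by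
  have hY : Finite Y := Finite.of_injective f hf
  obtain ⟨f', D, -⟩ := exists_std' H S' hf hK hS
  obtain ⟨l, L⟩ := exists_isOut S' H
  obtain ⟨φ, hφ⟩ := D.exists_acts (D.le ha)
  obtain ⟨ψ, hψ⟩ := D.exists_acts (D.le hb)
  have h1 : (l φ).2 * (l φ).2 = 1 := by
    rw [← Prod.snd_mul, ← map_mul]
    exact D.field_of_cz H L haa (hφ.mul hφ)
  have h2 : (l ψ).2 * (l ψ).2 = 1 := by
    rw [← Prod.snd_mul, ← map_mul]
    exact D.field_of_cz H L hbb (hψ.mul hψ)
  have hcyc : IsCyclic (K ≃+* K) := LieRecognition.FieldSemilinear.isCyclic_ringAut K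
  have hfin : Finite (K ≃+* K) := Finite.of_injective (fun τ : K ≃+* K => (τ : K → K)) DFunLike.coe_injective
  rcases cyclic_two h1 h2 with h3 | h3 | h3
  · exact Or.inl (D.cz_of_field H L ha hφ h3)
  · exact Or.inr (Or.inl (D.cz_of_field H L hb hψ h3))
  · refine Or.inr (Or.inr (D.cz_of_field H L (mul_mem (inv_mem ha) hb) (hφ.inv.mul hψ) ?_))
    rw [map_mul, map_inv, Prod.snd_mul, Prod.snd_inv, h3, inv_mul_cancel]

/-- **(k2)** -/
theorem k2 (S' : Sys R e) (hf : Function.Injective f) (hK : f.range = K₀) {S₁ : Subgroup G} (hS : Good K₀ S)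
    (hS₁ : Good K₀ S₁) {x : G} (hx : x ∈ S₁) (hxz : x ∈ cz K₀ S) : x ∈ cz K₀ S₁ := by
  have hY : Finite Y := Finite.of_injective f hf
  obtain ⟨l, L⟩ := exists_isOut S' H
  obtain ⟨φ, hφ⟩ := Acts.exists_of_mem hf (by rw [hK]; exact hS₁.le hx : x ∈ Subgroup.normalizer (f.range : Set G))
  obtain ⟨f', D, h1⟩ := exists_std' H S' hf hK hS
  obtain ⟨f'', D', h2⟩ := exists_std' H S' hf hK hS₁
  obtain ⟨φ', h3, h4⟩ := h1 l L x φ hφ
  obtain ⟨φ'', h5, h6⟩ := h2 l L x φ hφ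
  refine D'.cz_of_field H L hx h5 ?_
  rw [h6, ← h4]
  exact D.field_of_cz H L hxz h3

/-- **(k4)** -/
theorem k4 (S' : Sys R e) (hM : DTwo M) (hf : Function.Injective f) (hK : f.range = K₀) (hS : Good K₀ S) {a b : G}
    (ha : a ∈ S) (hb : b ∈ S) (haz : a ∈ cz K₀ S) (hbz : b ∈ cz K₀ S) :
    Inner K₀ a ∨ Inner K₀ b ∨ Inner K₀ (a⁻¹ * b) := by
  have hY : Finite Y := Finite.of_injective f hf
  obtain ⟨f', D, -⟩ := exists_std' H S' hf hK hS
  obtain ⟨l, L⟩ := exists_isOut S' H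
  -- inner elements
  have hin : ∀ x ∈ S, ∀ φ, Acts f' x φ → l φ = 1 → Inner K₀ x := by
    intro x hx φ hφ hl
    obtain ⟨k, hk⟩ := D.exists_pow hx hφ
    obtain ⟨y, rfl⟩ := L.ker φ k hk hl
    have := hφ.inner
    rwa [D.range] at this
  -- the symmetries of `S`
  let P : Subgroup (Equiv.Perm I) :=
    { carrier := {σ | ∃ x ∈ S, ∃ φ, Acts f' x φ ∧ (l φ).1 = σ}
      one_mem' := ⟨1, one_mem _, 1, Acts.one, by rw [map_one]; rfl⟩
      mul_mem' := by
        rintro _ _ ⟨x, hx, φ, hφ, rfl⟩ ⟨x', hx', φ', hφ', rfl⟩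
        exact ⟨x * x', mul_mem hx hx', _, hφ.mul hφ', by rw [map_mul]; rfl⟩
      inv_mem' := by
        rintro _ ⟨x, hx, φ, hφ, rfl⟩
        exact ⟨x⁻¹, inv_mem hx, _, hφ.inv, by rw [map_inv]; rfl⟩ }
  have hP : IsPGroup 2 ↥P := by
    rintro ⟨_, x, hx, φ, hφ, rfl⟩
    obtain ⟨k, hk⟩ := D.exists_pow hx hφ
    refine ⟨k, Subtype.ext ?_⟩
    show ((l φ).1) ^ 2 ^ k = 1
    rw [← Prod.pow_fst, ← map_pow, hk, map_one]
    rfl
  have hPM : ∀ σ ∈ P, ∀ i j, M (σ i) (σ j) = M i j := by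
    rintro _ ⟨x, hx, φ, hφ, rfl⟩
    exact matrix_of H L φ
  obtain ⟨φ, hφ⟩ := D.exists_acts (D.le ha)
  obtain ⟨ψ, hψ⟩ := D.exists_acts (D.le hb)
  have h1 := D.field_of_cz H L haz hφ
  have h2 := D.field_of_cz H L hbz hψ
  by_cases h3 : (l φ).1 = 1
  · exact Or.inl (hin a ha φ hφ (Prod.ext h3 h1))
  by_cases h4 : (l ψ).1 = 1
  · exact Or.inr (Or.inl (hin b hb ψ hψ (Prod.ext h4 h2)))
  have h5 := hM P hP hPM _ ⟨a, ha, φ, hφ, rfl⟩ _ ⟨b, hb, ψ, hψ, rfl⟩ h3 h4
  refine Or.inr (Or.inr (hin _ (mul_mem (inv_mem ha) hb) _ (hφ.inv.mul hψ) ?_))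
  rw [map_mul, map_inv]
  exact Prod.ext (by rw [Prod.fst_mul, Prod.fst_inv, h5, inv_mul_cancel]; rfl)
    (by rw [Prod.snd_mul, Prod.snd_inv, h1, h2, inv_mul_cancel]; rfl)

/-- **(c1)** -/
theorem c1 (S' : Sys R e) (hq : 4 < Nat.card K) (hf : Function.Injective f) (hK : f.range = K₀) (hS : Good K₀ S)
    {x : G} (hx : x ∈ S) (hxz : x ∉ cz K₀ S) :
    ∃ a ∈ zc K₀ S, ∃ b ∈ zc K₀ S, a * x ≠ x * a ∧ b * x ≠ x * b ∧ a * b * x ≠ x * (a * b) := by
  have hY : Finite Y := Finite.of_injective f hf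
  obtain ⟨f', D, -⟩ := exists_std' H S' hf hK hS
  obtain ⟨l, L⟩ := exists_isOut S' H
  obtain ⟨φ, hφ⟩ := D.exists_acts (D.le hx)
  obtain ⟨k, hk⟩ := D.exists_pow hx hφ
  obtain ⟨r, hr⟩ := exists_star (cs := cs) (h := h)
  obtain ⟨a₀, ha₀, h1⟩ := act_star H L (D.fix hx hφ) hk hr
  have h2 : (l φ).2 ≠ 1 := fun h3 => hxz (D.cz_of_field H L hx hφ h3)
  have h3 : ∃ a b, (l φ).2 a ≠ a ∧ (l φ).2 b ≠ b ∧ (l φ).2 (a + b) ≠ a + b := by
    by_contra hcon
    push Not at hcon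
    apply h2
    refine eq_one_of_half hq fun a b => ?_
    by_cases h4 : (l φ).2 a = a
    · exact Or.inl h4
    · by_cases h5 : (l φ).2 b = b
      · exact Or.inr (Or.inl h5)
      · exact Or.inr (Or.inr (hcon a b h4 h5))
  have hmem : ∀ a, f' (e r a) ∈ zc K₀ S := fun a => D.mem_zc.2
    ⟨_, RGD.le_Sup (star_pos hr) (S'.mem hr.1 a), fun u hu => star_comm_U S' hr (S'.mem hr.1 a) hu, rfl⟩
  have hne : ∀ a, (l φ).2 a ≠ a → f' (e r (a₀ * a)) * x ≠ x * f' (e r (a₀ * a)) := by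
    intro a ha hc
    apply ha
    have h4 := hφ (e r (a₀ * a))
    rw [← hc, mul_inv_cancel_right, h1] at h4
    exact mul_left_cancel₀ ha₀ (S'.data.injective hr.1 (D.inj h4))
  obtain ⟨a, b, ha, hb, hab⟩ := h3
  refine ⟨_, hmem (a₀ * a), _, hmem (a₀ * b), hne a ha, hne b hb, ?_⟩
  rw [← map_mul, ← S'.data.add r hr.1, ← mul_add]
  exact hne _ hab

end BF

/-! ### (star+) -/

section StarP

variable {G : Type*} [Group G] {K₀ S : Subgroup G} [Finite W] [Finite K] [Nonempty I] [CharP K 2]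
  {R : RGD cs h 2 T n X} {S' : Sys R e} (H : Hyp cs h T X) {l : MulAut Y →* Equiv.Perm I × (K ≃+* K)}
  (L : IsOut S' l) {f : Y →* G}

/-- independence of two root groups of the same height -/
theorem mul_mem_UH (S' : Sys R e) {r r' : I → ℤ} (hr : r ∈ RGD.Pos cs h) (hr' : r' ∈ RGD.Pos cs h) (hne : r ≠ r')
    {j : ℕ} (hj : ht r = j + 1) (hj' : ht r' = j + 1) {z z' : Y} (hz : z ∈ X r) (hz' : z' ∈ X r')
    (hzz : z * z' ∈ UH cs h X (j + 1)) : z = 1 := by
  have h1 : Nodes.Unique.Closed cs h ({r} : Set (I → ℤ)) := by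
    rintro _ rfl _ rfl z hz
    exact Nodes.Unique.btwn_self hr.1 hz
  let Q : Set (I → ℤ) := {x | x = r' ∨ (x ∈ RGD.Pos cs h ∧ ((j + 1 : ℕ) : ℤ) < ht x)}
  have hQpos : ∀ x ∈ Q, x ∈ RGD.Pos cs h ∧ (j : ℤ) + 1 ≤ ht x := by
    rintro x (rfl | ⟨hx, hxj⟩)
    · exact ⟨hr', hj'.ge⟩
    · refine ⟨hx, ?_⟩
      push_cast at hxj
      omega
  have h2 : Nodes.Unique.Closed cs h Q := by
    intro x hx y hy z hz
    obtain ⟨hxp, hxh⟩ := hQpos x hx
    obtain ⟨hyp, hyh⟩ := hQpos y hy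
    by_cases hxy : x = r' ∧ y = r'
    · obtain ⟨rfl, rfl⟩ := hxy
      exact Or.inl (Nodes.Unique.btwn_self hr'.1 hz)
    have hz1 : z ∈ {r | r ∈ RGD.Pos cs h ∧ (j : ℤ) < ht r} := by
      refine closed_UH S' j x ⟨hxp, by omega⟩ y ⟨hyp, by omega⟩ z hz
    refine Or.inr ⟨hz1.1, ?_⟩
    obtain ⟨m, a, b, hm, ha, hb, hle, he⟩ := btwn_le S' hxp.1 hyp.1 hz
    have h3 : m * ht z = a * ht x + b * ht y := by rw [← ht_smul, he, ht_add, ht_smul, ht_smul]
    have h4 : (j : ℤ) + 2 ≤ ht x ∨ (j : ℤ) + 2 ≤ ht y := by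
      by_contra hcon
      push Not at hcon
      apply hxy
      constructor
      · rcases hx with rfl | ⟨-, hx⟩
        · rfl
        · push_cast at hx; omega
      · rcases hy with rfl | ⟨-, hy⟩
        · rfl
        · push_cast at hy; omega
    have h5 : (a + b) * ((j : ℤ) + 1) < a * ht x + b * ht y := by
      rcases h4 with h4 | h4
      · have h6 := mul_le_mul_of_nonneg_left h4 ha.le
        have h7 := mul_le_mul_of_nonneg_left hyh hb.le
        linarith only [ha, h6, h7]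
      · have h6 := mul_le_mul_of_nonneg_left h4 hb.le
        have h7 := mul_le_mul_of_nonneg_left hxh ha.le
        linarith only [hb, h6, h7]
    have h6 : m * ((j : ℤ) + 1) ≤ (a + b) * ((j : ℤ) + 1) := mul_le_mul_of_nonneg_right hle (by (clear * -; positivity))
    have h7 : m * ((j : ℤ) + 1) < m * ht z := by rw [h3]; linarith
    have h8 := lt_of_mul_lt_mul_left h7 hm.le
    push_cast
    exact h8
  have h3 := Nodes.Unique.inf_eq R (S := {r}) (Set.singleton_subset_iff.2 hr) (fun x hx => (hQpos x hx).1) h1 h2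
  have h8 : z ∈ RGD.Sup X Q := by
    have h6 : UH cs h X (j + 1) ≤ RGD.Sup X Q := RGD.Sup_mono fun x hx => Or.inr hx
    have h7 : z' ∈ RGD.Sup X Q := RGD.le_Sup (S := Q) (Or.inl rfl) hz'
    have h5 := mul_mem (h6 hzz) (inv_mem h7)
    rwa [mul_inv_cancel_right] at h5
  have h4 : z ∈ RGD.Sup X {r} ⊓ RGD.Sup X Q := ⟨RGD.le_Sup (Set.mem_singleton r) hz, h8⟩
  have h5 : ({r} : Set (I → ℤ)) ∩ Q = ∅ := by
    ext x
    simp only [Set.mem_inter_iff, Set.mem_singleton_iff, Set.mem_empty_iff_false, iff_false]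
    rintro ⟨rfl, h6 | ⟨-, h6⟩⟩
    · exact hne h6
    · push_cast at h6; omega
  rw [h3, h5, Sup_empty] at h4
  exact Subgroup.mem_bot.1 h4

theorem ht_comp (σ : Equiv.Perm I) (r : I → ℤ) : ht (r ∘ σ.symm) = ht r := by
  unfold ht
  exact Equiv.sum_comp σ.symm r

omit [Finite K] [Nonempty I] [CharP K 2] in
theorem pos_comp {σ : Equiv.Perm I} (hσ : ∀ i j, M (σ i) (σ j) = M i j) (hA : ∀ i j, A (σ i) (σ j) = A i j)
    {r : I → ℤ} (hr : r ∈ RGD.Pos cs h) : r ∘ σ.symm ∈ RGD.Pos cs h :=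
  ⟨isRoot_comp hσ hA hr.1, fun i => hr.2 _⟩

include H L

/-- **An element commuting with a root element** preserves the root, and the factor from `U` centralises it. -/
theorem comm_root [Finite Y] {φ : MulAut Y} (hφ : Fix φ (RGD.Sup X (RGD.Pos cs h))) {r : I → ℤ} (hr : r ∈ RGD.Pos cs h)
    {a : K} (ha : a ≠ 0) (hc : φ (e r a) = e r a) : ∃ u ∈ RGD.Sup X (RGD.Pos cs h),
      Tau T X (chS e) A (MulAut.conj u * φ) (l φ).1 (l φ).2 ∧ (∀ k : ℕ, φ ^ k = 1 → (MulAut.conj u * φ) ^ k = 1) ∧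
      r ∘ (l φ).1.symm = r ∧ (∀ v ∈ X r, u * v = v * u) ∧ ∀ t, φ (e r (a * t)) = e r (a * (l φ).2 t) := by
  have : Fact (Nat.Prime 2) := ⟨Nat.prime_two⟩
  obtain ⟨u, hu, B, hp⟩ := exists_frameU H L hφ
  obtain ⟨c, hc0, hβ⟩ := Tau.root R (coords S' H.gen) B hr.1
  have hM := matrix_of H L φ
  have hr' : r ∘ (l φ).1.symm ∈ RGD.Pos cs h := pos_comp hM (H.cart _ hM) hr
  obtain ⟨j, hj⟩ : ∃ j : ℕ, ht r = j + 1 := ⟨(ht r - 1).toNat, by have := ht_pos hr; omega⟩
  have hj' : ht (r ∘ (l φ).1.symm) = j + 1 := by rw [ht_comp, hj]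
  have h1 : u * e r a * u⁻¹ = e (r ∘ (l φ).1.symm) (c * (l φ).2 a) := by
    rw [← hβ, MulAut.mul_apply, hc, MulAut.conj_apply]
  have h2 : e (r ∘ (l φ).1.symm) (c * (l φ).2 a) * e r a ∈ UH cs h X (j + 1) := by
    have h3 : e r a ∈ UH cs h X j :=
      RGD.le_Sup (S := {r | r ∈ RGD.Pos cs h ∧ (j : ℤ) < ht r}) ⟨hr, by omega⟩ (S'.mem hr.1 _)
    have h4 := UH_comm S' (by rw [UH_zero]; exact hu) h3
    rwa [commutatorElement_def, h1, S'.data.inv hr.1] at h4
  have hrr : r ∘ (l φ).1.symm = r := by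
    by_contra hne
    have h3 := mul_mem_UH S' hr' hr hne hj' hj (S'.mem hr'.1 _) (S'.mem hr.1 _) h2
    have h4 := S'.data.inj _ hr'.1 _ h3
    rcases mul_eq_zero.1 h4 with h5 | h5
    · exact hc0 h5
    · exact ha (by simpa using h5)
  rw [hrr] at h1 h2 hβ
  have h3 : c * (l φ).2 a = a := by
    rw [← S'.data.add r hr.1] at h2
    have h4 := X_inf_UH S' hr (by rw [hj]; push_cast; exact le_rfl) (S'.mem hr.1 _) h2
    have h5 := S'.data.inj r hr.1 _ h4
    have h6 := S'.data.two a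
    exact add_right_cancel (h5.trans h6.symm)
  rw [h3] at h1
  have h4 : u * e r a = e r a * u := by
    calc u * e r a = u * e r a * u⁻¹ * u := by group
      _ = _ := by rw [h1]
  have h5 : ∀ v ∈ X r, u * v = v * u := fun v hv =>
    comm_all S' H.gen hr.1 (S'.mem hr.1 a) (S'.data.ne_one hr.1 ha) h4 hv
  refine ⟨u, hu, B, hp, hrr, h5, fun t => ?_⟩
  have h6 := hβ (a * t)
  rw [MulAut.mul_apply, MulAut.conj_apply] at h6
  have h7 : φ (e r (a * t)) = u⁻¹ * e r (c * (l φ).2 (a * t)) * u := by rw [← h6]; group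
  rw [h7, mul_assoc, ← h5 _ (S'.mem hr.1 _), inv_mul_cancel_left, map_mul, ← mul_assoc, h3]

/-- **(star+)**: an element without field part commuting with a root element centralises the root group. -/
theorem star_plus [Finite Y] (D : Std cs h X K₀ S f) {y : G} (hy : y ∈ S) {φ : MulAut Y} (hφ : Acts f y φ)
    (hl : (l φ).2 = 1) {r : I → ℤ} (hr : r ∈ RGD.Pos cs h) {a : K} (ha : a ≠ 0) (hc : f (e r a) * y = y * f (e r a))
    {v : Y} (hv : v ∈ X r) : f v * y = y * f v := by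
  have h1 : φ (e r a) = e r a := by
    apply D.inj
    rw [hφ, ← hc, mul_inv_cancel_right]
  obtain ⟨-, -, -, -, -, -, h2⟩ := comm_root H L (D.fix hy hφ) hr ha h1
  obtain ⟨b, rfl⟩ := (S'.mem_X r hr.1 v).1 hv
  have h3 := h2 (a⁻¹ * b)
  rw [hl, RingAut.one_apply, mul_inv_cancel_left₀ ha] at h3
  have h4 := hφ (e r b)
  rw [h3] at h4
  calc f (e r b) * y = (y * f (e r b) * y⁻¹) * y := by rw [← h4]
    _ = y * f (e r b) := by group

end StarP

/-! ### Simply laced -/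

section SL

theorem cpr_comp [Finite W] {σ : Equiv.Perm I} (hσ : ∀ i j, M (σ i) (σ j) = M i j)
    (hA : ∀ i j, A (σ i) (σ j) = A i j) (x : I → ℤ) {y : I → ℤ} (hy : IsRoot cs h y) :
    cpr cs h (x ∘ σ.symm) (y ∘ σ.symm) = cpr cs h x y := by
  obtain ⟨w, i, rfl⟩ := hy
  rw [← rep_hat (cs := cs) (h := h) hσ hA, sr_comp, cpr_rep_sr, cpr_rep_sr, ← map_inv,
    rep_hat (cs := cs) (h := h) hσ hA, pairing_comp hA]

/-- **The hypotheses in the simply laced case.** -/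
theorem hyp_of_SL [Finite W] {R : RGD cs h p T n X} (hG1 : RGD.Sup X {x | IsRoot cs h x} = ⊤) (hN : NoCent cs h T X)
    (hconn : ∀ J : Set I, J.Nonempty → J ≠ Set.univ → ∃ a ∈ J, ∃ b, b ∉ J ∧ M a b ≠ 2)
    (h4 : ∀ i j, M i j ≠ 4) (h6 : ∀ i j, M i j ≠ 6) : Hyp cs h T X := by
  have hl : ∀ i j, i ≠ j → M i j = 2 ∨ M i j = 3 := by
    intro i j hij
    rcases h.rel i j hij with ⟨h1, -⟩ | ⟨h1, -⟩ | ⟨h1, -⟩ | ⟨h1, -⟩
    · exact Or.inl h1
    · exact Or.inr h1
    · exact absurd h1 (h4 i j)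
    · exact absurd h1 (h6 i j)
  have hs : RgdSL.SL cs h := fun _ _ hx hy => Nodes.SimplyLaced.cpr_symm cs h h4 h6 hx hy
  have hO : ∀ r, IsRoot cs h r → RgdOdd.Orth cs h r := fun r hr => orth_of h4 h6 (by
    intro J hJ hJc
    obtain ⟨a, ha, b, hb, hab⟩ := hconn J hJ (fun h0 => by
      rw [h0, Set.compl_univ] at hJc
      exact Set.not_nonempty_empty hJc)
    exact ⟨a, ha, b, hb, hab⟩) hr
  refine ⟨hG1, hN, hconn, fun σ hσ => cartan_of_laced h hl hσ, fun σ hσ r hr => ?_⟩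
  have hA := cartan_of_laced h hl hσ
  have hinv : ∀ x : I → ℤ, (x ∘ σ) ∘ σ.symm = x := fun x => by
    ext i
    simp
  have hσ' : ∀ i j, M (σ⁻¹ i) (σ⁻¹ j) = M i j := by
    have h1 : ∀ k, σ (σ⁻¹ k) = k := fun k => σ.apply_symm_apply k
    intro i j
    rw [← hσ, h1, h1]
  refine RgdAutFacts.dom_unique hs hO ⟨isRoot_comp hσ hA hr.1, fun a ha => ?_⟩ hr
  have h1 : a ∘ σ ∈ RGD.Pos cs h := by
    have := pos_comp (cs := cs) (h := h) hσ' (cartan_of_laced h hl hσ') ha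
    exact this
  rw [← hinv a, cpr_comp hσ hA _ h1.1]
  exact hr.2 _ h1

end SL

end Cfsg.Agent.KFacts.SysFree
end

-- part: KFacts/SysFour
section
prune_inst 0x4020080000000018000040000402800000000000000010400400004214002541002100000c00001880000800000000100080402000000a00000000000020802a42008208a104240001802000000000000000000000000000000000041000000000000
set_option linter.all false
open scoped Cfsg.Agent.FastGrp

/-!
# `BFacts` for `Sys` (ODD, D4, free pairs): (k5)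

* `layer` : an automorphism with a field part acts nontrivially on every root group modulo the next layer;
* `c3` : simply laced, rank at least three, at most four elements: the third alternative of `Out5`;
* `c1_two` : two different dominant roots: the first alternative of `Out5`;
* `out5_of_SL`, `out5_of_two` : (k5) for all fields.
-/

set_option autoImplicit false
set_option linter.unusedSectionVars false

namespace Cfsg.Agent.KFacts.SysFour

open CoxeterSystem Cfsg.Agent.ChevalleyStructure.CoxeterGeom Cfsg.Agent.Tits.Roots Cfsg.Agent.Tits.Core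
  Cfsg.Agent.Tits.Exchange Cfsg.Agent.Nodes.Reps Cfsg.Agent.Nodes.BNOf Cfsg.Agent.Nodes.StabComb
  Cfsg.Agent.Nodes.Bruhat Cfsg.Agent.Nodes.OppDec Cfsg.Agent.Nodes.LeviDec Cfsg.Agent.Nodes.NormalForm
  Cfsg.Agent.Nodes.Coroot Cfsg.Agent.Nodes.PosPair Cfsg.Agent.KFacts.RgdPar Cfsg.Agent.KFacts.RgdTI
  Cfsg.Agent.KFacts.RgdOpp Cfsg.Agent.KFacts.RgdAut Cfsg.Agent.KFacts.RgdDiag Cfsg.Agent.KFacts.RgdRigid
  Cfsg.Agent.KFacts.RgdCent Cfsg.Agent.KFacts.RgdKap Cfsg.Agent.KFacts.RgdField Cfsg.Agent.KFacts.RgdTau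
  Cfsg.Agent.KFacts.RgdSys Cfsg.Agent.KFacts.RgdOver Cfsg.Agent.KFacts.RgdPure Cfsg.Agent.KFacts.ChevTwo
  Cfsg.Agent.KFacts.SysOut Cfsg.Agent.KFacts.SysLine Cfsg.Agent.KFacts.SysFlt Cfsg.Agent.KFacts.SysFree
  Cfsg.Agent.OddHalf.D4.Free Cfsg.Agent.OddHalf.D4.Basic
open scoped commutatorElement

variable {I W Y K : Type*} [Fintype I] [DecidableEq I] [Group W] [Group Y] [Field K] {M : CoxeterMatrix I}
variable {cs : CoxeterSystem M W} {A : I → I → ℤ} {h : IsCartan M A} {e : (I → ℤ) → K → Y}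
  {p : ℕ} {T : Subgroup Y} {n : I → Y} {X : (I → ℤ) → Subgroup Y}

/-! ### The top of the root system -/

/-- `ρ` is a positive root of maximal height `j + 1`. -/
structure Top (cs : CoxeterSystem M W) (h : IsCartan M A) (ρ : I → ℤ) (j : ℕ) : Prop where
  pos : ρ ∈ RGD.Pos cs h
  eq : ht ρ = j + 1
  max : ∀ a ∈ RGD.Pos cs h, ht a ≤ j + 1

theorem exists_top' [Finite W] [Nonempty I] (cs : CoxeterSystem M W) (h : IsCartan M A) :
    ∃ ρ j, Top cs h ρ j := by
  obtain ⟨i⟩ := ‹Nonempty I›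
  have hfin : (RGD.Pos cs h).Finite := (RGD.finite_roots (cs := cs) (h := h)).subset fun x hx => hx.1
  obtain ⟨r, hr, hmax⟩ := Set.exists_max_image (RGD.Pos cs h) ht hfin ⟨sr i, isRoot_sr cs h i, sr_nonneg i⟩
  have h1 := ht_pos hr
  have h2 : ht r = ((ht r - 1).toNat : ℤ) + 1 := by omega
  exact ⟨r, (ht r - 1).toNat, hr, h2, fun a ha => by have := hmax a ha; omega⟩

theorem ht_neg (x : I → ℤ) : ht (-x) = -ht x := by
  have := ht_smul (-1) x
  rw [neg_smul, one_smul] at this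
  rw [this]; ring

theorem ht_sub (x y : I → ℤ) : ht (x - y) = ht x - ht y := by
  rw [sub_eq_add_neg, ht_add, ht_neg]; ring

/-- a root of positive height is positive -/
theorem pos_of_ht {x : I → ℤ} (hx : IsRoot cs h x) (h0 : 0 < ht x) : x ∈ RGD.Pos cs h := by
  refine ⟨hx, ?_⟩
  rcases hx.pos_or_neg with h1 | h1
  · exact h1
  · exfalso
    have h2 := ht_pos (cs := cs) (h := h) (x := -x) ⟨hx.neg, neg_nonneg.2 h1⟩
    rw [ht_neg] at h2
    omega

/-- the height of a root is not zero -/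
theorem ht_ne_zero {x : I → ℤ} (hx : IsRoot cs h x) : ht x ≠ 0 := by
  intro h0
  rcases hx.pos_or_neg with h1 | h1
  · have := ht_pos (cs := cs) (h := h) (x := x) ⟨hx, h1⟩
    omega
  · have := ht_pos (cs := cs) (h := h) (x := -x) ⟨hx.neg, neg_nonneg.2 h1⟩
    rw [ht_neg] at this
    omega

section Top

variable {ρ : I → ℤ} {j : ℕ} (hT : Top cs h ρ j)

include hT

theorem Top.abs {a : I → ℤ} (ha : IsRoot cs h a) : ht a ≤ j + 1 := by
  by_contra hcon
  push Not at hcon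
  have := hT.max a (pos_of_ht ha (by omega))
  omega

theorem Top.star [Finite W] : ρ ∈ Star cs h (RGD.Pos cs h) := by
  refine ⟨hT.pos.1, fun a ha => ?_⟩
  by_contra hneg
  push Not at hneg
  have h1 := isRoot_refl cs h hT.pos.1 ha.1
  have h2 : ht (ρ - cpr cs h ρ a • a) = ht ρ - cpr cs h ρ a * ht a := by
    rw [ht_sub, ht_smul]
  have h3 := ht_pos ha
  have h4 : 0 < -cpr cs h ρ a * ht a := mul_pos (by omega) h3
  have h5 := hT.abs h1
  rw [h2, hT.eq] at h5
  linarith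

theorem Top.UH_bot : UH cs h X (j + 1) = ⊥ := by
  rw [eq_bot_iff]
  refine RGD.Sup_le fun x hx => ?_
  exfalso
  have h2 := hT.max x hx.1
  have h3 := hx.2
  push_cast at h3
  omega

/-- Height at least three in the simply laced case of rank at least three. -/
theorem Top.two_le [Finite W] (hs : RgdSL.SL cs h) (hnb : ∀ r, IsRoot cs h r → ∃ b, IsRoot cs h b ∧ cpr cs h r b = 1)
    (hth : ∀ r s, IsRoot cs h r → IsRoot cs h s → cpr cs h r s = 1 →
      ∃ c, IsRoot cs h c ∧ cpr cs h c r = 1 ∧ cpr cs h c s = 1) : 2 ≤ j := by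
  obtain ⟨b, hb, hb1⟩ := hnb ρ hT.pos.1
  -- a root pairing to one with `ρ` is positive and smaller
  have key : ∀ c, IsRoot cs h c → cpr cs h ρ c = 1 → 1 ≤ ht c ∧ ht c ≤ j := by
    intro c hc hc1
    have h1 := RgdSL.isRoot_sub hT.pos.1 hc hc1
    have h2 := hT.abs h1
    have h3 := hT.abs h1.neg
    have h4 := ht_ne_zero h1
    have h5 := hT.abs hc
    have h6 := ht_ne_zero hc
    rw [ht_sub, hT.eq] at h2 h4
    rw [ht_neg, ht_sub, hT.eq] at h3
    omega
  obtain ⟨h1, h2⟩ := key b hb hb1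
  by_contra hcon
  have h3 : ht b = 1 := by omega
  obtain ⟨c, hc, hc1, hc2⟩ := hth ρ b hT.pos.1 hb hb1
  rw [hs c ρ hc hT.pos.1] at hc1
  obtain ⟨h4, h5⟩ := key c hc hc1
  have h6 := ht_ne_zero (RgdSL.isRoot_sub hc hb hc2)
  rw [ht_sub] at h6
  omega

/-- A root of height `j`. -/
theorem Top.exists_next [Finite W] (hs : RgdSL.SL cs h) (hj : 1 ≤ j) : ∃ r ∈ RGD.Pos cs h, ht r = j := by
  have := Fintype.ofFinite W
  obtain ⟨i, hi, hp⟩ := exists_pairing_pos (cs := cs) (h := h) hT.pos.2 hT.pos.1.ne_zero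
  rw [← cpr_sr cs h] at hp
  have h1 : ht (sr i : I → ℤ) = 1 := by
    unfold ht
    rw [Finset.sum_eq_single i]
    · simp [sr]
    · intro b _ hb
      simp [sr, hb]
    · intro h0
      exact absurd (Finset.mem_univ i) h0
  have h2 : ρ ≠ sr i := by
    intro h0
    have := hT.eq
    rw [h0, h1] at this
    omega
  have h3 : ρ ≠ -sr i := by
    intro h0
    have := hT.eq
    rw [h0, ht_neg, h1] at this
    omega
  have h4 := (hs.abs_le hT.pos.1 (isRoot_sr cs h i) h2 h3).2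
  have h5 := RgdSL.isRoot_sub hT.pos.1 (isRoot_sr cs h i) (by omega)
  have h6 : ht (ρ - sr i) = j := by rw [ht_sub, hT.eq, h1]; ring
  exact ⟨ρ - sr i, pos_of_ht h5 (by omega), h6⟩

end Top

/-! ### The layers -/

section Layer

variable [Finite W] [Finite Y] [Finite K] [Nonempty I] [CharP K 2] {R : RGD cs h 2 T n X}
  {S : Sys R e} (H : Hyp cs h T X)
  {l : MulAut Y →* Equiv.Perm I × (K ≃+* K)} (L : IsOut S l)

include H L

theorem map_UH {φ : MulAut Y} (hφ : Fix φ (RGD.Sup X (RGD.Pos cs h))) {j : ℕ} {v : Y} (hv : v ∈ UH cs h X j) :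
    φ v ∈ UH cs h X j := by
  have : Fact (Nat.Prime 2) := ⟨Nat.prime_two⟩
  obtain ⟨u, hu, B, -⟩ := exists_frameU H L hφ
  have hM := matrix_of H L φ
  have h1 : UH cs h X j ≤ (UH cs h X j).comap (MulAut.conj u * φ : MulAut Y).toMonoidHom := by
    refine RGD.Sup_le fun r hr w hw => ?_
    obtain ⟨t, rfl⟩ := (S.mem_X r hr.1.1 w).1 hw
    obtain ⟨c, -, hβ⟩ := Tau.root R (coords S H.gen) B hr.1.1
    show (MulAut.conj u * φ : MulAut Y) (e r t) ∈ UH cs h X j
    rw [hβ]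
    have hr' : r ∘ (l φ).1.symm ∈ RGD.Pos cs h := pos_comp hM (H.cart _ hM) hr.1
    exact RGD.le_Sup (S := {r | r ∈ RGD.Pos cs h ∧ (j : ℤ) < ht r}) ⟨hr', by rw [ht_comp]; exact hr.2⟩
      (S.mem hr'.1 _)
  have h2 : u * φ v * u⁻¹ ∈ UH cs h X j := h1 hv
  have hu' : u ∈ UH cs h X 0 := by rw [UH_zero]; exact hu
  have h3 := UH_conj S (inv_mem hu') h2
  have h4 : u⁻¹ * (u * φ v * u⁻¹) * u⁻¹⁻¹ = φ v := by group
  rwa [h4] at h3

/-- **The action on the layers.** -/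
theorem layer {φ : MulAut Y} (hφ : Fix φ (RGD.Sup X (RGD.Pos cs h))) (hl : (l φ).2 ≠ 1) {r : I → ℤ}
    (hr : r ∈ RGD.Pos cs h) {j : ℕ} (hj : ht r = j + 1) : ∃ t, φ (e r t) * (e r t)⁻¹ ∉ UH cs h X (j + 1) := by
  have : Fact (Nat.Prime 2) := ⟨Nat.prime_two⟩
  by_contra hcon
  push Not at hcon
  obtain ⟨u, hu, B, -⟩ := exists_frameU H L hφ
  obtain ⟨c, hc0, hβ⟩ := Tau.root R (coords S H.gen) B hr.1
  have hM := matrix_of H L φ
  have hr' : r ∘ (l φ).1.symm ∈ RGD.Pos cs h := pos_comp hM (H.cart _ hM) hr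
  have hj' : ht (r ∘ (l φ).1.symm) = j + 1 := by rw [ht_comp, hj]
  have hu' : u ∈ UH cs h X 0 := by rw [UH_zero]; exact hu
  have h1 : ∀ t, e (r ∘ (l φ).1.symm) (c * (l φ).2 t) * e r t ∈ UH cs h X (j + 1) := by
    intro t
    have h2 : e (r ∘ (l φ).1.symm) (c * (l φ).2 t) ∈ UH cs h X j :=
      RGD.le_Sup (S := {r | r ∈ RGD.Pos cs h ∧ (j : ℤ) < ht r}) ⟨hr', by omega⟩ (S.mem hr'.1 _)
    have h3 := UH_comm S (inv_mem hu') h2
    have h4 : u * φ (e r t) * u⁻¹ = e (r ∘ (l φ).1.symm) (c * (l φ).2 t) := hβ t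
    have h5 : φ (e r t) = u⁻¹ * e (r ∘ (l φ).1.symm) (c * (l φ).2 t) * u := by rw [← h4]; group
    have h6 := mul_mem (inv_mem h3) (hcon t)
    rw [h5, S.data.inv hr.1] at h6
    have h7 : ⁅u⁻¹, e (r ∘ (l φ).1.symm) (c * (l φ).2 t)⁆⁻¹ *
        (u⁻¹ * e (r ∘ (l φ).1.symm) (c * (l φ).2 t) * u * e r t) =
        e (r ∘ (l φ).1.symm) (c * (l φ).2 t) * e r t := by
      rw [commutatorElement_def]; group
    rwa [h7] at h6
  by_cases hne : r ∘ (l φ).1.symm = r
  · rw [hne] at h1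
    have h2 : ∀ t, c * (l φ).2 t = t := by
      intro t
      have h3 := h1 t
      rw [← S.data.add r hr.1] at h3
      have h4 := X_inf_UH S hr (by rw [hj]; push_cast; exact le_rfl) (S.mem hr.1 _) h3
      have h5 := S.data.inj r hr.1 _ h4
      exact add_right_cancel (h5.trans (S.data.two t).symm)
    have h3 : c = 1 := by
      have := h2 1
      rwa [map_one, mul_one] at this
    apply hl
    ext t
    have := h2 t
    rwa [h3, one_mul] at this
  · have h2 := mul_mem_UH S hr' hr hne hj' hj (S.mem hr'.1 _) (S.mem hr.1 _) (h1 1)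
    have h3 := S.data.inj _ hr'.1 _ h2
    rw [map_one, mul_one] at h3
    exact hc0 h3

end Layer

/-! ### (c3) -/

section Sq

variable [Finite W] {R : RGD cs h p T n X} (S : Sys R e) {ρ : I → ℤ} {j : ℕ} (hT : Top cs h ρ j)

include S hT

/-- The two upper layers are elementary abelian. -/
theorem sq_UH (hj : 2 ≤ j) {v : Y} (hv : v ∈ UH cs h X (j - 1)) : v * v = 1 := by
  have hcomm : ∀ r ∈ {r | r ∈ RGD.Pos cs h ∧ ((j - 1 : ℕ) : ℤ) < ht r}, ∀ v ∈ X r, ∀ w ∈ UH cs h X (j - 1),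
      v * w = w * v := by
    intro r hr v hv w hw
    have h1 : UH cs h X (j - 1) ≤ Subgroup.centralizer ({v} : Set Y) := by
      refine RGD.Sup_le fun a ha w hw => ?_
      rw [Subgroup.mem_centralizer_singleton_iff]
      have h2 := comm_gen S ha.1 hr.1 hw hv
      have h3 : RGD.Sup X {z | z ∈ RGD.Pos cs h ∧ ht a + ht r ≤ ht z} ≤ UH cs h X (j + 1) := by
        refine RGD.Sup_mono fun z hz => ⟨hz.1, ?_⟩
        have h4 := ha.2
        have h5 := hr.2
        have h6 := hz.2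
        push_cast
        push_cast [Nat.cast_sub (by omega : 1 ≤ j)] at h4 h5
        omega
      have h4 := h3 h2
      rw [hT.UH_bot, Subgroup.mem_bot, commutatorElement_eq_one_iff_mul_comm] at h4
      exact h4
    exact (Subgroup.mem_centralizer_singleton_iff.1 (h1 hw)).symm
  let L : Subgroup Y :=
    { carrier := {y | y ∈ UH cs h X (j - 1) ∧ y * y = 1 ∧ ∀ w ∈ UH cs h X (j - 1), y * w = w * y}
      one_mem' := ⟨one_mem _, mul_one 1, fun w _ => by rw [one_mul, mul_one]⟩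
      mul_mem' := by
        rintro a b ⟨ha, ha2, hac⟩ ⟨hb, hb2, hbc⟩
        refine ⟨mul_mem ha hb, ?_, fun w hw => by rw [mul_assoc, hbc w hw, ← mul_assoc, hac w hw, mul_assoc]⟩
        calc a * b * (a * b) = a * (b * a) * b := by group
          _ = (a * a) * (b * b) := by rw [hbc a ha]; group
          _ = 1 := by rw [ha2, hb2, one_mul]
      inv_mem' := by
        rintro a ⟨ha, ha2, hac⟩
        have : a⁻¹ = a := inv_eq_of_mul_eq_one_right ha2
        rw [this]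
        exact ⟨ha, ha2, hac⟩ }
  have hL : UH cs h X (j - 1) ≤ L := by
    refine RGD.Sup_le fun r hr v hv => ⟨RGD.le_Sup hr hv, ?_, fun w hw => hcomm r hr v hv w hw⟩
    obtain ⟨a, rfl⟩ := (S.mem_X r hr.1.1 v).1 hv
    exact S.data.sq hr.1.1 a
  exact (hL hv).2.1

end Sq

section BF

variable {G : Type*} [Group G] [Finite G] {K₀ : Subgroup G} [Finite W] [Finite K] [Nonempty I] [CharP K 2]
  {R : RGD cs h 2 T n X} (H : Hyp cs h T X) {f : Y →* G}

include H

/-- `|Z(S ∩ K)| ≤ |F|` if the dominant root is unique -/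
theorem card_zc_le (S' : Sys R e) {ρ : I → ℤ} (hρ : ρ ∈ Star cs h (RGD.Pos cs h))
    (hone : ∀ r ∈ Star cs h (RGD.Pos cs h), r = ρ) (hf : Function.Injective f) (hK : f.range = K₀)
    {S : Subgroup G} (hS : Good K₀ S) : Nat.card ↥(zc K₀ S) ≤ Nat.card K := by
  have hY : Finite Y := Finite.of_injective f hf
  obtain ⟨f', D, -⟩ := exists_std' H S' hf hK hS
  have h1 : ∀ z : ↥(zc K₀ S), ∃ t : K, f' (e ρ t) = z := by
    rintro ⟨z, hz⟩
    obtain ⟨y, hy, hyc, rfl⟩ := D.mem_zc.1 hz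
    have h2 := center_le S' H.gen H.cent H.conn hyc
    have h3 : RGD.Sup X (Star cs h (RGD.Pos cs h)) ≤ X ρ := RGD.Sup_le fun r hr => by rw [hone r hr]
    obtain ⟨t, rfl⟩ := (S'.mem_X ρ hρ.1 y).1 (h3 h2)
    exact ⟨t, rfl⟩
  choose g hg using h1
  refine Nat.card_le_card_of_injective g fun a b hab => Subtype.ext ?_
  rw [← hg a, ← hg b, hab]

/-- **(c3)** -/
theorem c3 (S' : Sys R e) {ρ : I → ℤ} {j : ℕ} (hT : Top cs h ρ j) (hj : 2 ≤ j) (hq : Nat.card K ≤ 4)
    (hone : ∀ r ∈ Star cs h (RGD.Pos cs h), r = ρ) {r₁ : I → ℤ} (hr₁ : r₁ ∈ RGD.Pos cs h) (hr₁j : ht r₁ = j)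
    (hf : Function.Injective f) (hK : f.range = K₀) :
    (∀ S, Good K₀ S → Nat.card ↥(zc K₀ S) ≤ 4) ∧
    ∀ S, Good K₀ S → ∃ W ≤ S ⊓ K₀, (∀ s ∈ S, ∀ w ∈ W, s * w * s⁻¹ ∈ W) ∧ (∀ w ∈ W, w * w = 1) ∧
      ∀ x ∈ S, x ∉ cz K₀ S → x * x = 1 →
        ∃ a ∈ W, ∃ b ∈ W, a * x ≠ x * a ∧ b * x ≠ x * b ∧ a * b * x ≠ x * (a * b) := by
  have hY : Finite Y := Finite.of_injective f hf
  refine ⟨fun S hS => (card_zc_le H S' hT.star hone hf hK hS).trans hq, fun S hS => ?_⟩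
  obtain ⟨f', D, -⟩ := exists_std' H S' hf hK hS
  obtain ⟨l, L⟩ := exists_isOut S' H
  have hρj : X ρ ≤ UH cs h X j :=
    RGD.le_Sup (S := {r | r ∈ RGD.Pos cs h ∧ (j : ℤ) < ht r}) ⟨hT.pos, by rw [hT.eq]; omega⟩
  refine ⟨(UH cs h X (j - 1)).map f', ?_, ?_, ?_, ?_⟩
  · rw [D.inf, ← UH_zero]
    exact Subgroup.map_mono (UH_le (Nat.zero_le _))
  · rintro s hs _ ⟨v, hv, rfl⟩
    obtain ⟨φ, hφ⟩ := D.exists_acts (D.le hs)
    exact ⟨φ v, map_UH H L (D.fix hs hφ) hv, hφ v⟩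
  · rintro _ ⟨v, hv, rfl⟩
    rw [← map_mul, sq_UH S' hT hj hv, map_one]
  · intro x hx hxz _
    obtain ⟨φ, hφ⟩ := D.exists_acts (D.le hx)
    have hl : (l φ).2 ≠ 1 := fun h0 => hxz (D.cz_of_field H L hx hφ h0)
    obtain ⟨k, hk⟩ := D.exists_pow hx hφ
    obtain ⟨a₀, ha₀, h1⟩ := act_star H L (D.fix hx hφ) hk hT.star
    obtain ⟨t, hlt⟩ : ∃ t, (l φ).2 t ≠ t := by
      by_contra h0
      push Not at h0
      exact hl (RingEquiv.ext h0)
    have hz : φ (e ρ (a₀ * t)) ≠ e ρ (a₀ * t) := by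
      intro h2
      rw [h1] at h2
      exact hlt (mul_left_cancel₀ ha₀ (S'.data.injective hT.pos.1 h2))
    obtain ⟨t', hlt'⟩ := layer H L (D.fix hx hφ) hl hr₁ (j := j - 1) (by rw [hr₁j]; omega)
    rw [Nat.sub_add_cancel (by omega : 1 ≤ j)] at hlt'
    have hne : ∀ y, φ y ≠ y → f' y * x ≠ x * f' y := by
      intro y hy hc
      apply hy
      apply D.inj
      rw [hφ, ← hc, mul_inv_cancel_right]
    have hzj : e ρ (a₀ * t) ∈ UH cs h X j := hρj (S'.mem hT.pos.1 _)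
    refine ⟨f' (e ρ (a₀ * t)), ⟨_, UH_le (Nat.sub_le _ _) hzj, rfl⟩, f' (e r₁ t'),
      ⟨_, RGD.le_Sup (S := {r | r ∈ RGD.Pos cs h ∧ ((j - 1 : ℕ) : ℤ) < ht r}) ⟨hr₁, by rw [hr₁j]; omega⟩
        (S'.mem hr₁.1 _), rfl⟩, hne _ hz, hne _ ?_, ?_⟩
    · intro h2
      apply hlt'
      rw [h2, mul_inv_cancel]
      exact one_mem _
    · rw [← map_mul]
      refine hne _ fun h2 => hlt' ?_
      rw [map_mul] at h2
      have h3 : φ (e r₁ t') * (e r₁ t')⁻¹ = (φ (e ρ (a₀ * t)))⁻¹ * e ρ (a₀ * t) := by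
        calc φ (e r₁ t') * (e r₁ t')⁻¹ =
              (φ (e ρ (a₀ * t)))⁻¹ * (φ (e ρ (a₀ * t)) * φ (e r₁ t')) * (e r₁ t')⁻¹ := by group
          _ = (φ (e ρ (a₀ * t)))⁻¹ * e ρ (a₀ * t) := by rw [h2]; group
      rw [h3, h1]
      exact mul_mem (inv_mem (hρj (S'.mem hT.pos.1 _))) hzj

/-- **(c1) for two dominant roots** -/
theorem c1_two (S' : Sys R e) {r r' : I → ℤ} (hr : r ∈ Star cs h (RGD.Pos cs h)) (hr' : r' ∈ Star cs h (RGD.Pos cs h))
    (hrr : r ≠ r') (hf : Function.Injective f) (hK : f.range = K₀) {S : Subgroup G} (hS : Good K₀ S)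
    {x : G} (hx : x ∈ S) (hxz : x ∉ cz K₀ S) :
    ∃ a ∈ zc K₀ S, ∃ b ∈ zc K₀ S, a * x ≠ x * a ∧ b * x ≠ x * b ∧ a * b * x ≠ x * (a * b) := by
  have hY : Finite Y := Finite.of_injective f hf
  obtain ⟨f', D, -⟩ := exists_std' H S' hf hK hS
  obtain ⟨l, L⟩ := exists_isOut S' H
  obtain ⟨φ, hφ⟩ := D.exists_acts (D.le hx)
  obtain ⟨k, hk⟩ := D.exists_pow hx hφ
  obtain ⟨a₀, ha₀, h1⟩ := act_star H L (D.fix hx hφ) hk hr
  obtain ⟨b₀, hb₀, h1'⟩ := act_star H L (D.fix hx hφ) hk hr'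
  have h2 : (l φ).2 ≠ 1 := fun h3 => hxz (D.cz_of_field H L hx hφ h3)
  obtain ⟨t, hlt⟩ : ∃ t, (l φ).2 t ≠ t := by
    by_contra h0
    push Not at h0
    exact h2 (RingEquiv.ext h0)
  have hmem : ∀ {r : I → ℤ}, r ∈ Star cs h (RGD.Pos cs h) → ∀ a, f' (e r a) ∈ zc K₀ S := fun hr a => D.mem_zc.2
    ⟨_, RGD.le_Sup (star_pos hr) (S'.mem hr.1 a), fun u hu => star_comm_U S' hr (S'.mem hr.1 a) hu, rfl⟩
  have hne : ∀ y, φ y ≠ y → f' y * x ≠ x * f' y := by
    intro y hy hc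
    apply hy
    apply D.inj
    rw [hφ, ← hc, mul_inv_cancel_right]
  refine ⟨_, hmem hr (a₀ * t), _, hmem hr' (b₀ * t), hne _ ?_, hne _ ?_, ?_⟩
  · rw [h1]
    exact fun h3 => hlt (mul_left_cancel₀ ha₀ (S'.data.injective hr.1 h3))
  · rw [h1']
    exact fun h3 => hlt (mul_left_cancel₀ hb₀ (S'.data.injective hr'.1 h3))
  · rw [← map_mul]
    refine hne _ fun h3 => hlt ?_
    rw [map_mul, h1, h1'] at h3
    -- an element of `X r ∩ X r'`
    have h4 : (e r (a₀ * t))⁻¹ * e r (a₀ * (l φ).2 t) = e r' (b₀ * t) * (e r' (b₀ * (l φ).2 t))⁻¹ := by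
      calc (e r (a₀ * t))⁻¹ * e r (a₀ * (l φ).2 t) =
            (e r (a₀ * t))⁻¹ * (e r (a₀ * (l φ).2 t) * e r' (b₀ * (l φ).2 t)) * (e r' (b₀ * (l φ).2 t))⁻¹ := by
              group
        _ = e r' (b₀ * t) * (e r' (b₀ * (l φ).2 t))⁻¹ := by rw [h3]; group
    have h5 : (e r (a₀ * t))⁻¹ * e r (a₀ * (l φ).2 t) = 1 := by
      have h6 : (e r (a₀ * t))⁻¹ * e r (a₀ * (l φ).2 t) ∈ X r :=
        mul_mem (inv_mem (S'.mem hr.1 _)) (S'.mem hr.1 _)
      have h7 : (e r (a₀ * t))⁻¹ * e r (a₀ * (l φ).2 t) ∈ X r' := by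
        rw [h4]
        exact mul_mem (S'.mem hr'.1 _) (inv_mem (S'.mem hr'.1 _))
      have h8 : Nodes.Unique.Closed cs h ({r} : Set (I → ℤ)) := by
        rintro _ rfl _ rfl z hz
        exact Nodes.Unique.btwn_self hr.1 hz
      have h9 : Nodes.Unique.Closed cs h ({r'} : Set (I → ℤ)) := by
        rintro _ rfl _ rfl z hz
        exact Nodes.Unique.btwn_self hr'.1 hz
      have h10 := Nodes.Unique.inf_eq R (S := {r}) (Set.singleton_subset_iff.2 (star_pos hr))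
        (Set.singleton_subset_iff.2 (star_pos hr')) h8 h9
      have h11 : (e r (a₀ * t))⁻¹ * e r (a₀ * (l φ).2 t) ∈ RGD.Sup X {r} ⊓ RGD.Sup X {r'} :=
        ⟨RGD.le_Sup (Set.mem_singleton r) h6, RGD.le_Sup (Set.mem_singleton r') h7⟩
      have h12 : ({r} : Set (I → ℤ)) ∩ {r'} = ∅ := by
        ext x
        simp only [Set.mem_inter_iff, Set.mem_singleton_iff, Set.mem_empty_iff_false, iff_false]
        rintro ⟨rfl, h13⟩
        exact hrr h13
      rw [h10, h12, Sup_empty] at h11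
      exact Subgroup.mem_bot.1 h11
    have h6 : e r (a₀ * (l φ).2 t) = e r (a₀ * t) := (inv_mul_eq_one.1 h5).symm
    exact mul_left_cancel₀ ha₀ (S'.data.injective hr.1 h6)

/-- **(k5) for two dominant roots.** -/
theorem out5_of_two (S' : Sys R e) {r r' : I → ℤ} (hr : r ∈ Star cs h (RGD.Pos cs h))
    (hr' : r' ∈ Star cs h (RGD.Pos cs h)) (hrr : r ≠ r') (hf : Function.Injective f) (hK : f.range = K₀) :
    Out5 K₀ := Or.inl fun _ hS _ hx hxz => c1_two H S' hr hr' hrr hf hK hS hx hxz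

/-- **(k5), simply laced, rank at least three, all fields.** -/
theorem out5_of_SL (S' : Sys R e) (h4 : ∀ i j, M i j ≠ 4) (h6 : ∀ i j, M i j ≠ 6) (h3 : 3 ≤ Fintype.card I)
    (hf : Function.Injective f) (hK : f.range = K₀) : Out5 K₀ := by
  by_cases hq : 4 < Nat.card K
  · exact Or.inl fun S hS x hx hxz => c1 H S' hq hf hK hS hx hxz
  have hirr : Cfsg.Agent.KFacts.SLRow.Def.Conn M := by
    intro J hJ hJc
    obtain ⟨a, ha, b, hb, hab⟩ := H.conn J hJ (fun h0 => by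
      rw [h0, Set.compl_univ] at hJc
      exact Set.not_nonempty_empty hJc)
    exact ⟨a, ha, b, hb, hab⟩
  have hs : RgdSL.SL cs h := sl_of h4 h6
  obtain ⟨ρ, j, hT⟩ := exists_top' cs h
  have hj : 2 ≤ j := hT.two_le hs (fun r hr => nb_of h4 h6 hirr h3 hr)
    fun r s hr hsr hrs => three_of h4 h6 hirr h3 hr hsr hrs
  obtain ⟨r₁, hr₁, hr₁j⟩ := hT.exists_next hs (by omega)
  have hone : ∀ r ∈ Star cs h (RGD.Pos cs h), r = ρ := fun r hr =>
    RgdAutFacts.dom_unique hs (fun _ hr => orth_of h4 h6 hirr hr) hr hT.star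
  exact Or.inr (Or.inr (Or.inl (c3 H S' hT hj (not_lt.1 hq) hone hr₁ hr₁j hf hK)))

end BF

end Cfsg.Agent.KFacts.SysFour

private theorem dce_29923e99e282 : _root_.True := by
  try have : _root_.True := by simp only [_root_.Cfsg.Agent.KFacts.SysLine.UH.congr_simp]
  exact _root_.True.intro
end

-- part: KFacts/SysFltS
section
prune_inst 0x100024480000000018000040000402c200010000200001014004000cc9252125412121b07006000918aae020300048111000c9422000000a00820000040000042902008138ad00310000408800000000000000000000000000000000000000000000000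
set_option linter.all false
open scoped Cfsg.Agent.FastGrp

/-!
# (k3) for `Sys` without diagram symmetries (ODD, D4, free pairs)

* `gen_map`, `line_root` : the root lines `f(X r)`; `fix_root` : an element of `S` without field part whose diagram
  symmetry fixes `r` acts trivially on `f(X r)` modulo `f(UH (ht r))`;
* `fltS_of_rigid`, `line_of_rigid` : `FltS` and (k3) if the diagram has no symmetries;
* `bFacts_of_rigid` : `BFacts` for `|F_q| ≥ 8`; with (c1)-(c4) as input for `|F_q| ≥ 4`.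
-/

set_option autoImplicit false
set_option linter.unusedSectionVars false

namespace Cfsg.Agent.KFacts.SysFltS

open CoxeterSystem Cfsg.Agent.ChevalleyStructure.CoxeterGeom Cfsg.Agent.Tits.Roots Cfsg.Agent.Tits.Core
  Cfsg.Agent.Tits.Exchange Cfsg.Agent.Nodes.Reps Cfsg.Agent.Nodes.BNOf Cfsg.Agent.Nodes.StabComb
  Cfsg.Agent.Nodes.Bruhat Cfsg.Agent.Nodes.OppDec Cfsg.Agent.Nodes.LeviDec Cfsg.Agent.Nodes.NormalForm
  Cfsg.Agent.Nodes.Coroot Cfsg.Agent.Nodes.PosPair Cfsg.Agent.KFacts.RgdPar Cfsg.Agent.KFacts.RgdTI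
  Cfsg.Agent.KFacts.RgdOpp Cfsg.Agent.KFacts.RgdAut Cfsg.Agent.KFacts.RgdDiag Cfsg.Agent.KFacts.RgdRigid
  Cfsg.Agent.KFacts.RgdCent Cfsg.Agent.KFacts.RgdKap Cfsg.Agent.KFacts.RgdField Cfsg.Agent.KFacts.RgdTau
  Cfsg.Agent.KFacts.RgdSys Cfsg.Agent.KFacts.RgdOver Cfsg.Agent.KFacts.RgdPure Cfsg.Agent.KFacts.ChevTwo
  Cfsg.Agent.KFacts.SysOut Cfsg.Agent.KFacts.SysLine Cfsg.Agent.KFacts.SysFlt Cfsg.Agent.KFacts.SLRow.Diag
  Cfsg.Agent.KFacts.SysFree Cfsg.Agent.OddHalf.D4.Free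
open scoped commutatorElement

variable {I W Y K : Type*} [Fintype I] [DecidableEq I] [Group W] [Group Y] [Field K] {M : CoxeterMatrix I}
variable {cs : CoxeterSystem M W} {A : I → I → ℤ} {h : IsCartan M A} {e : (I → ℤ) → K → Y}
  {T : Subgroup Y} {n : I → Y} {X : (I → ℤ) → Subgroup Y}

/-- the root lines of height `j + 1` -/
def RL {G : Type*} [Group G] (cs : CoxeterSystem M W) (h : IsCartan M A) (X : (I → ℤ) → Subgroup Y) (f : Y →* G)
    (j : ℕ) : Set (Subgroup G) := {l | ∃ r, r ∈ RGD.Pos cs h ∧ ht r = j + 1 ∧ l = (X r).map f}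

section

variable {G : Type*} [Group G] [Finite W] {R : RGD cs h 2 T n X} (S' : Sys R e) (f : Y →* G)

include S'

theorem gen_map (j : ℕ) {u : G} (hu : u ∈ (UH cs h X j).map f) :
    u ∈ Subgroup.closure ({x | ∃ l ∈ RL cs h X f j, x ∈ l} ∪ (((UH cs h X (j + 1)).map f : Subgroup G) : Set G)) := by
  obtain ⟨u, hu, rfl⟩ := hu
  have h1 : Subgroup.closure ({x | ∃ r, r ∈ RGD.Pos cs h ∧ ht r = j + 1 ∧ x ∈ X r} ∪
      (UH cs h X (j + 1) : Set Y)) ≤ (Subgroup.closure ({x | ∃ l ∈ RL cs h X f j, x ∈ l} ∪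
        (((UH cs h X (j + 1)).map f : Subgroup G) : Set G))).comap f := by
    rw [Subgroup.closure_le]
    rintro x (⟨r, hr, hrj, hx⟩ | hx)
    · exact Subgroup.subset_closure (Or.inl ⟨_, ⟨r, hr, hrj, rfl⟩, x, hx, rfl⟩)
    · exact Subgroup.subset_closure (Or.inr ⟨x, hx, rfl⟩)
  exact h1 (UH_gen S' j hu)

end

section

variable {G : Type*} [Group G] [Finite G] {K₀ S : Subgroup G} [Finite W] [Finite K] [Nonempty I] [CharP K 2]
  {R : RGD cs h 2 T n X} {S' : Sys R e} (H : Hyp cs h T X) {l : MulAut Y →* Equiv.Perm I × (K ≃+* K)}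
  (L : IsOut S' l) {f : Y →* G}

include H L

theorem not_mem_of_ne [Finite Y] (D : Std cs h X K₀ S f) {r : I → ℤ} (hr : r ∈ RGD.Pos cs h) {j : ℕ}
    (hj : ht r = j + 1) {a : K} (ha : a ≠ 0) : f (e r a) ∉ (UH cs h X (j + 1)).map f := by
  rintro ⟨y, hy, he⟩
  have h2 := D.inj he
  subst h2
  exact S'.data.ne_one hr.1 ha (X_inf_UH S' hr (by rw [hj]; push_cast; exact le_rfl) (S'.mem hr.1 a) hy)

/-- **The root lines.** -/
theorem line_root [Finite Y] (hq : 3 ≤ Nat.card K) (D : Std cs h X K₀ S f) {r : I → ℤ} (hr : r ∈ RGD.Pos cs h) {j : ℕ}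
    (hj : ht r = j + 1) : IsLineF K₀ S ((UH cs h X (j + 1)).map f) ((X r).map f) where
  sq := by
    rintro _ ⟨x, hx, rfl⟩
    obtain ⟨a, rfl⟩ := (S'.mem_X r hr.1 x).1 hx
    rw [← map_mul, S'.data.sq hr.1, map_one]
    exact one_mem _
  pair := by
    obtain ⟨b, hb0, hb1⟩ : ∃ b : K, b ≠ 0 ∧ b ≠ 1 := by
      by_contra hcon
      push Not at hcon
      classical
      have := Fintype.ofFinite K
      have h4 : (Finset.univ : Finset K) ⊆ {0, 1} := by
        intro b _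
        by_cases hb : b = 0
        · simp [hb]
        · simp [hcon b hb]
      have h5 := Finset.card_le_card h4
      have h6 : ({0, 1} : Finset K).card ≤ 2 := Finset.card_le_two
      rw [Finset.card_univ, ← Nat.card_eq_fintype_card] at h5
      omega
    refine ⟨_, ⟨_, S'.mem hr.1 1, rfl⟩, _, ⟨_, S'.mem hr.1 b, rfl⟩, not_mem_of_ne H L D hr hj one_ne_zero,
      not_mem_of_ne H L D hr hj hb0, ?_⟩
    rw [← map_inv, ← map_mul, S'.data.inv hr.1, ← S'.data.add r hr.1]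
    refine not_mem_of_ne H L D hr hj fun h4 => hb1 ?_
    have h5 := S'.data.two b
    exact (add_right_cancel (h4.trans h5.symm)).symm
  star := by
    rintro y hy hyz - _ ⟨x, hx, rfl⟩ hxD hc _ ⟨v, hv, rfl⟩
    obtain ⟨φ, hφ⟩ := D.exists_acts (D.le hy)
    obtain ⟨a, rfl⟩ := (S'.mem_X r hr.1 x).1 hx
    refine star_plus H L D hy hφ (D.field_of_cz H L hyz hφ) hr (a := a) ?_ hc hv
    rintro rfl
    apply hxD
    rw [S'.data.zero hr.1, map_one]
    exact one_mem _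

/-- **The action on a root group fixed by the diagram symmetry.** -/
theorem fix_root [Finite Y] (D : Std cs h X K₀ S f) {r : I → ℤ} (hr : r ∈ RGD.Pos cs h) {j : ℕ} (hj : ht r = j + 1)
    {s : G} (hs : s ∈ S) (hsz : s ∈ cz K₀ S) {φ : MulAut Y} (hφ : Acts f s φ) (hrσ : r ∘ (l φ).1.symm = r) {x : G}
    (hx : x ∈ (X r).map f) : s * x * s⁻¹ * x⁻¹ ∈ (UH cs h X (j + 1)).map f := by
  have : Fact (Nat.Prime 2) := ⟨Nat.prime_two⟩
  obtain ⟨x, hx, rfl⟩ := hx
  obtain ⟨u, hu, B, hp⟩ := exists_frameU H L (D.fix hs hφ)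
  obtain ⟨k, hk⟩ := D.exists_pow hs hφ
  obtain ⟨a₀, ha₀, h1⟩ := Tau.pure R (coords S' H.gen) B (hp _ hk) hr.1 hrσ
  obtain ⟨a, rfl⟩ := (S'.mem_X r hr.1 x).1 hx
  have h2 := h1 (a₀⁻¹ * a)
  rw [D.field_of_cz H L hsz hφ, RingAut.one_apply, mul_inv_cancel_left₀ ha₀, MulAut.mul_apply, MulAut.conj_apply] at h2
  have h3 : φ (e r a) = u⁻¹ * e r a * u := by
    conv_rhs => rw [← h2]
    group
  rw [← hφ, h3, ← map_inv, ← map_mul]
  refine ⟨_, ?_, rfl⟩
  have h4 : e r a ∈ UH cs h X j :=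
    RGD.le_Sup (S := {r | r ∈ RGD.Pos cs h ∧ (j : ℤ) < ht r}) ⟨hr, by omega⟩ (S'.mem hr.1 _)
  have h5 := UH_comm S' (by rw [UH_zero]; exact inv_mem hu) h4
  rwa [commutatorElement_def, inv_inv] at h5

/-- **`FltS` without diagram symmetries.** -/
theorem fltS_of_rigid' [Finite Y] (hq : 3 ≤ Nat.card K) (D : Std cs h X K₀ S f)
    (hrig : ∀ σ : Equiv.Perm I, (∀ i j, M (σ i) (σ j) = M i j) → σ = 1) :
    FltS K₀ S (fun j => (UH cs h X j).map f) (RL cs h X f) where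
  zero := by
    show (UH cs h X 0).map f = _
    rw [UH_zero, D.inf]
  bot := by
    obtain ⟨n, hn⟩ := UH_bot (cs := cs) (h := h) (X := X)
    exact ⟨n, by rw [hn, Subgroup.map_bot]⟩
  le j := Subgroup.map_mono (UH_le (Nat.le_succ j))
  gen j _ hu := gen_map S' f j hu
  line_le := by
    rintro j _ ⟨r, hr, hrj, rfl⟩
    exact Subgroup.map_mono (RGD.le_Sup (S := {r | r ∈ RGD.Pos cs h ∧ (j : ℤ) < ht r}) ⟨hr, by omega⟩)
  line := by
    rintro j _ ⟨r, hr, hrj, rfl⟩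
    exact line_root H L hq D hr hrj
  fix := by
    rintro j _ ⟨r, hr, hrj, rfl⟩ x hx s hs hsz
    obtain ⟨φ, hφ⟩ := D.exists_acts (D.le hs)
    refine fix_root H L D hr hrj hs hsz hφ ?_ hx
    rw [hrig _ (matrix_of H L φ)]
    rfl

omit L

theorem fltS_of_rigid (S' : Sys R e) (hq : 3 ≤ Nat.card K)
    (hrig : ∀ σ : Equiv.Perm I, (∀ i j, M (σ i) (σ j) = M i j) → σ = 1) (hf : Function.Injective f)
    (hK : f.range = K₀) (hS : Good K₀ S) : ∃ U L, FltS K₀ S U L := by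
  have hY : Finite Y := Finite.of_injective f hf
  obtain ⟨f', D, -⟩ := exists_std' H S' hf hK hS
  obtain ⟨l, L⟩ := exists_isOut S' H
  exact ⟨_, _, fltS_of_rigid' H L hq D hrig⟩

/-- **`BFacts`** from (k3) and (k5). -/
theorem bFacts_of (S' : Sys R e) (hM : DTwo M) (hf : Function.Injective f) (hK : f.range = K₀)
    (h3 : ∀ S, Good K₀ S → ∃ U L, FltS K₀ S U L) (h5 : Out5 K₀) : BFacts K₀ where
  sq _ hS _ hz := k0 H S' hf hK hS hz
  cyc _ hS _ ha _ hb haa hbb := k1 H S' hf hK hS ha hb haa hbb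
  field _ _ hS hS₁ _ hx hxz := k2 H S' hf hK hS hS₁ hx hxz
  line := line_of_fltS h3
  graph _ hS _ ha _ hb haz hbz := k4 H S' hM hf hK hS ha hb haz hbz
  out := h5

/-- **`BFacts` without diagram symmetries**, up to (k5) -/
theorem bFacts_of_rigid (S' : Sys R e) (hq : 3 ≤ Nat.card K)
    (hrig : ∀ σ : Equiv.Perm I, (∀ i j, M (σ i) (σ j) = M i j) → σ = 1) (hf : Function.Injective f)
    (hK : f.range = K₀) (h5 : Out5 K₀) : BFacts K₀ :=
  bFacts_of H S' (fun _ _ hP _ hσ _ _ h1 _ => absurd (hrig _ (hP _ hσ)) h1) hf hK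
    (fun _ hS => fltS_of_rigid H S' hq hrig hf hK hS) h5

end

end Cfsg.Agent.KFacts.SysFltS
end

-- part: KFacts/SysBFSp
section
set_option linter.all false
open scoped Cfsg.Agent.FastGrp

/-!
# `BFacts` for `PSp_{2n}(q)`, `n ≥ 3`, `q ≥ 4` even (ODD, D4, free pairs)

* `rigid_B` : the diagram `B_n`, `n ≥ 3`, has no symmetries; `hyp_PSp`; `star_long`, `star_short`: the dominant roots;
* `bFacts_PSp`, `bFacts_cj_PSp`.
-/

set_option autoImplicit false
set_option linter.unusedSectionVars false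

namespace Cfsg.Agent.KFacts.SysBFSp

open CoxeterSystem Cfsg.Agent.ChevalleyStructure.CoxeterGeom Cfsg.Agent.Tits.Roots Cfsg.Agent.Tits.Core
  Cfsg.Agent.Nodes.Reps Cfsg.Agent.Nodes.BNOf Cfsg.Agent.Nodes.RGDLib Cfsg.Agent.Nodes.Coroot
  Cfsg.Agent.Nodes.PosPair Cfsg.Agent.Nodes.KindBC Cfsg.Agent.Nodes.TypeC Cfsg.Agent.Nodes
  Cfsg.Agent.KFacts.ChevTwo Cfsg.Agent.KFacts.SLRow.Diag Cfsg.Agent.KFacts.RgdCent
  Cfsg.Agent.KFacts.SysSp
  Cfsg.Agent.KFacts.SysFree Cfsg.Agent.KFacts.SysFltS Cfsg.Agent.KFacts.SysFour Cfsg.Agent.OddHalf.D4.Free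
  Cfsg.Agent.TitsThree

/-! ### The diagram -/

theorem B_eq {n : ℕ} {i j : Fin n} (h : i ≠ j) : CoxeterMatrix.B n i j =
    if (i : ℕ) = n - 1 ∧ (j : ℕ) = n - 2 ∨ (j : ℕ) = n - 1 ∧ (i : ℕ) = n - 2 then 4
      else (if (j : ℕ) + 1 = i ∨ (i : ℕ) + 1 = j then 3 else 2) := by
  show (if i = j then 1 else _) = _
  rw [if_neg h]

theorem adj_of_ne {n : ℕ} {i j : Fin n} (h : i ≠ j) (h2 : CoxeterMatrix.B n i j ≠ 2) :
    (j : ℕ) + 1 = i ∨ (i : ℕ) + 1 = j := by
  rw [B_eq h] at h2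
  by_contra hcon
  rw [if_neg hcon] at h2
  split_ifs at h2 with h3
  · have h4 : (i : ℕ) ≠ j := fun h' => h (Fin.ext h')
    omega
  · exact h2 rfl

theorem ne_of_adj {n : ℕ} {i j : Fin n} (h : (i : ℕ) + 1 = j) : CoxeterMatrix.B n i j ≠ 2 := by
  have hne : i ≠ j := by
    rintro rfl
    omega
  rw [B_eq hne, if_pos (Or.inr h : (j : ℕ) + 1 = i ∨ (i : ℕ) + 1 = j)]
  split_ifs <;> norm_num

/-- **The diagram `B_n`, `n ≥ 3`, has no symmetries.** -/
theorem rigid_B {n : ℕ} (hn : 3 ≤ n) (σ : Equiv.Perm (Fin n))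
    (hσ : ∀ i j, CoxeterMatrix.B n (σ i) (σ j) = CoxeterMatrix.B n i j) : σ = 1 := by
  have hadj : ∀ i j : Fin n, (i : ℕ) + 1 = j → (σ j : ℕ) + 1 = σ i ∨ (σ i : ℕ) + 1 = σ j := by
    intro i j hij
    have hne : i ≠ j := by
      rintro rfl
      omega
    exact adj_of_ne (σ.injective.ne hne) (by rw [hσ]; exact ne_of_adj hij)
  -- the last two
  have h1 : n - 1 < n := by omega
  have h2 : n - 2 < n := by omega
  have h3 : n - 3 < n := by omega
  have h12 : (⟨n - 1, h1⟩ : Fin n) ≠ ⟨n - 2, h2⟩ := by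
    intro h
    have := congrArg Fin.val h
    simp only at this
    omega
  have h4 := hσ ⟨n - 1, h1⟩ ⟨n - 2, h2⟩
  have h4' : CoxeterMatrix.B n ⟨n - 1, h1⟩ ⟨n - 2, h2⟩ = 4 := by
    rw [B_eq h12]
    exact if_pos (Or.inl ⟨rfl, rfl⟩)
  rw [h4', B_eq (σ.injective.ne h12)] at h4
  have h5 : (σ ⟨n - 1, h1⟩ : ℕ) = n - 1 ∧ (σ ⟨n - 2, h2⟩ : ℕ) = n - 2 := by
    have h6 : (σ ⟨n - 1, h1⟩ : ℕ) = n - 1 ∧ (σ ⟨n - 2, h2⟩ : ℕ) = n - 2 ∨
        (σ ⟨n - 2, h2⟩ : ℕ) = n - 1 ∧ (σ ⟨n - 1, h1⟩ : ℕ) = n - 2 := by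
      by_contra hcon
      rw [if_neg hcon] at h4
      split_ifs at h4
      · norm_num at h4
      · norm_num at h4
    rcases h6 with h6 | ⟨h6, h7⟩
    · exact h6
    · exfalso
      have h8 := hadj ⟨n - 3, h3⟩ ⟨n - 2, h2⟩ (by show n - 3 + 1 = n - 2; omega)
      have h9 : σ ⟨n - 3, h3⟩ ≠ σ ⟨n - 1, h1⟩ := by
        apply σ.injective.ne
        intro h
        have := congrArg Fin.val h
        simp only at this
        omega
      have h10 : (σ ⟨n - 3, h3⟩ : ℕ) ≠ σ ⟨n - 1, h1⟩ := fun h => h9 (Fin.ext h)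
      have h11 := (σ ⟨n - 3, h3⟩).2
      omega
  have key : ∀ k : ℕ, ∀ i : Fin n, (i : ℕ) + 1 + k = n → σ i = i := by
    intro k
    induction k using Nat.strong_induction_on with
    | _ k ih =>
      intro i hi
      rcases k with _ | _ | k
      · have : i = ⟨n - 1, h1⟩ := Fin.ext (by show (i : ℕ) = n - 1; omega)
        rw [this]
        exact Fin.ext h5.1
      · have : i = ⟨n - 2, h2⟩ := Fin.ext (by show (i : ℕ) = n - 2; omega)
        rw [this]
        exact Fin.ext h5.2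
      · have hi1 : (i : ℕ) + 1 < n := by omega
        have hi2 : (i : ℕ) + 2 < n := by omega
        have e1 := ih (k + 1) (by omega) ⟨i + 1, hi1⟩ (by show (i : ℕ) + 1 + 1 + (k + 1) = n; omega)
        have e2 := ih k (by omega) ⟨i + 2, hi2⟩ (by show (i : ℕ) + 2 + 1 + k = n; omega)
        have h6 := hadj i ⟨i + 1, hi1⟩ rfl
        rw [e1] at h6
        have h7 : σ i ≠ σ ⟨i + 2, hi2⟩ := by
          apply σ.injective.ne
          intro h
          have := congrArg Fin.val h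
          simp only at this
          omega
        rw [e2] at h7
        have h8 : (σ i : ℕ) ≠ i + 2 := fun h => h7 (Fin.ext h)
        simp only at h6
        exact Fin.ext (by omega)
  refine Equiv.ext fun i => ?_
  rw [Equiv.Perm.one_apply]
  exact key (n - 1 - i) i (by have := i.2; omega)

/-! ### The hypotheses -/

section

variable {m : ℕ} (hm : 3 ≤ m) (F : Type*) [Field F] [CharP F 2] {W : Type*} [Group W] [Finite W]
  (cs : CoxeterSystem (CoxeterMatrix.B m) W)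

include hm

theorem hyp_PSp : Hyp cs (isCartan m) (WittModel.T (KInstSp.model m F)) (WittModel.X (KInstSp.model m F)) where
  gen := sup_eq_top_PSp (by omega) F cs
  cent := noCent_PSp m F cs
  conn := conn_B m
  cart σ hσ i j := by
    rw [rigid_B hm σ hσ]
    rfl
  dom σ hσ r _ := by
    rw [rigid_B hm σ hσ]
    rfl

/-! ### The dominant roots -/

theorem ee_zero_nonneg {x : Fin m → ℤ} (hx : 0 ≤ x) : 0 ≤ ee x ⟨0, by omega⟩ := by
  rw [ee_apply_zero x rfl]
  exact mul_nonneg (by unfold TypeCForm.cc; split_ifs <;> norm_num) (hx _)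

theorem ee_one_nonneg {x : Fin m → ℤ} (hx : 0 ≤ x) : 0 ≤ ee x ⟨0, by omega⟩ + ee x ⟨1, by omega⟩ := by
  rw [ee_apply_zero x rfl, ee_apply_succ x (k := ⟨1, by omega⟩) (j := ⟨0, by omega⟩) rfl]
  unfold TypeCForm.cc
  rw [if_pos (by show 0 + 1 < m; omega), if_pos (by show 1 + 1 < m; omega)]
  have := hx ⟨1, by omega⟩
  simp only [Pi.zero_apply] at this
  linarith

theorem wt_eq (a : Fin m × Bool) (k : Fin m) : wt a k = if k = a.1 then TypeCForm.sn a else 0 := wt_apply a k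

theorem ite_mul_sn (k : Fin m) (c : Fin m × Bool) :
    (if c.1 = k then (1 : ℤ) else 0) * TypeCForm.sn c = if k = c.1 then TypeCForm.sn c else 0 := by
  by_cases h : c.1 = k
  · rw [if_pos h, if_pos h.symm, one_mul]
  · rw [if_neg h, if_neg (Ne.symm h), zero_mul]

theorem star_long : rt (⟨0, by omega⟩, true) (⟨0, by omega⟩, true) ∈ Star cs (isCartan m) (RGD.Pos cs (isCartan m)) := by
  refine ⟨isRoot_rt cs (Or.inr rfl), ?_⟩
  rintro x ⟨hx, hx0⟩
  obtain ⟨a, b, hab, rfl⟩ := exists_rt hx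
  have h1 := ee_zero_nonneg hm hx0
  rw [ee_rt, Pi.add_apply, wt_eq hm, wt_eq hm, ← ite_mul_sn hm, ← ite_mul_sn hm] at h1
  have e1 : TypeCForm.sn ((⟨0, by omega⟩, true) : Fin m × Bool) = 1 := rfl
  rcases hab with hab | rfl
  · rw [cpr_rt cs _ hab, ee_rt, Pi.add_apply, Pi.add_apply, wt_eq hm, wt_eq hm, e1]
    linarith
  · rw [cpr_rt_self cs, ee_rt, Pi.add_apply, wt_eq hm, e1]
    linarith

theorem star_short : rt (⟨0, by omega⟩, true) (⟨1, by omega⟩, true) ∈ Star cs (isCartan m) (RGD.Pos cs (isCartan m)) := by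
  have h01 : (⟨0, by omega⟩ : Fin m) ≠ ⟨1, by omega⟩ := by
    intro h
    have := congrArg Fin.val h
    simp only at this
    omega
  refine ⟨isRoot_rt cs (Or.inl h01), ?_⟩
  rintro x ⟨hx, hx0⟩
  obtain ⟨a, b, hab, rfl⟩ := exists_rt hx
  have h1 := ee_one_nonneg hm hx0
  rw [ee_rt, Pi.add_apply, Pi.add_apply, wt_eq hm, wt_eq hm, wt_eq hm, wt_eq hm, ← ite_mul_sn hm, ← ite_mul_sn hm,
    ← ite_mul_sn hm, ← ite_mul_sn hm] at h1
  have e1 : TypeCForm.sn ((⟨0, by omega⟩, true) : Fin m × Bool) = 1 := rfl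
  have e2 : TypeCForm.sn ((⟨1, by omega⟩, true) : Fin m × Bool) = 1 := rfl
  rcases hab with hab | rfl
  · rw [cpr_rt cs _ hab, ee_rt, Pi.add_apply, Pi.add_apply, wt_eq hm, wt_eq hm, wt_eq hm, wt_eq hm, e1, e2]
    linarith
  · rw [cpr_rt_self cs, ee_rt, Pi.add_apply, wt_eq hm, wt_eq hm, e1, e2]
    linarith

theorem star_ne : rt ((⟨0, by omega⟩, true) : Fin m × Bool) (⟨0, by omega⟩, true) ≠ rt (⟨0, by omega⟩, true) (⟨1, by omega⟩, true) := by
  intro h
  have h1 := congrFun (congrArg ee h) ⟨1, by omega⟩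
  rw [ee_rt, ee_rt, Pi.add_apply, Pi.add_apply, wt_eq hm, wt_eq hm] at h1
  have h01 : ¬ (⟨1, by omega⟩ : Fin m) = ⟨0, by omega⟩ := by
    intro h
    have := congrArg Fin.val h
    simp only at this
    omega
  simp only [h01, if_false, if_true] at h1
  have e2 : TypeCForm.sn ((⟨1, by omega⟩, true) : Fin m × Bool) = 1 := rfl
  rw [e2] at h1
  norm_num at h1

end

/-! ### `BFacts` -/

section

variable {G : Type*} [Group G] [Finite G] {K₀ : Subgroup G}

/-- **`BFacts` for `PSp_{2m}(q)`, `m ≥ 3`, `q ≥ 4` even.** -/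
theorem bFacts_PSp {m : ℕ} (hm : 3 ≤ m) (F : Type*) [Field F] [Finite F] [CharP F 2] (hq : 3 ≤ Nat.card F)
    (f : PSp m F →* G) (hf : Function.Injective f) (hK : f.range = K₀) : BFacts K₀ := by
  have : Fact (Nat.Prime 2) := ⟨Nat.prime_two⟩
  have hfin : Finite (CoxeterMatrix.B m).Group := TypeC.finite_W (CoxeterMatrix.B m).toCoxeterSystem
  have hne : Nonempty (Fin m) := ⟨⟨0, by omega⟩⟩
  have H := hyp_PSp hm F (CoxeterMatrix.B m).toCoxeterSystem
  exact bFacts_of_rigid H (sys_PSp m F _) hq (rigid_B hm) hf hK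
    (out5_of_two H (sys_PSp m F _) (star_long hm _) (star_short hm _) (star_ne hm) hf hK)

/-- the conjugates of `K₀ ≅ PSp_{2m}(q)` -/
theorem bFacts_cj_PSp {m : ℕ} (hm : 3 ≤ m) (F : Type*) [Field F] [Finite F] [CharP F 2] (hq : 3 ≤ Nat.card F)
    (e : ↥K₀ ≃* PSp m F) (g : G) : BFacts (Cfsg.Agent.OddHalf.D4.CommConj.cj g K₀) := by
  let i : ↥K₀ ≃* ↥(Cfsg.Agent.OddHalf.D4.CommConj.cj g K₀) :=
    K₀.equivMapOfInjective (MulAut.conj g).toMonoidHom (MulAut.conj g).injective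
  refine bFacts_PSp hm F hq ((Subgroup.subtype _).comp (e.symm.trans i).toMonoidHom)
    ((Subgroup.subtype_injective _).comp (e.symm.trans i).injective) ?_
  ext x
  constructor
  · rintro ⟨y, rfl⟩
    exact ((e.symm.trans i) y).2
  · intro hx
    obtain ⟨y, hy⟩ := (e.symm.trans i).surjective ⟨x, hx⟩
    exact ⟨y, congrArg Subtype.val hy⟩

end

end Cfsg.Agent.KFacts.SysBFSp
end

-- part: KFacts/SuzSheets
section
set_option linter.all false
open scoped Cfsg.Agent.FastGrp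

/-!
# The two sheets of the Suzuki group (helper399)

`exists_sheets` : `SheetE` and `SheetM` for the groups isomorphic to `Suz`.
-/

set_option autoImplicit false

namespace Cfsg.Agent.KFacts.SuzSheets

open Cfsg.Agent.OddHalf.D8.Sheet Cfsg.Agent.OddHalf.CaseM

universe u

section

variable {K K' : Type*} [Group K] [Group K']

/-- `SheetM` along an isomorphism -/
theorem sheetM_map (e : K ≃* K') {P R : Subgroup K} (h : SheetM P R) :
    SheetM (P.map e.toMonoidHom) (R.map e.toMonoidHom) := by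
  have hinj : Function.Injective (Subgroup.map e.toMonoidHom) := Subgroup.map_injective e.injective
  have key : ∀ S : Subgroup K', ∃ S0 : Subgroup K, S = S0.map e.toMonoidHom := fun S =>
    ⟨S.comap e.toMonoidHom, by rw [Subgroup.map_comap_eq_self_of_surjective e.surjective]⟩
  constructor
  · intro S hS hsub hp hne
    obtain ⟨S0, rfl⟩ := key S
    have hS0 : S0 ≤ P := (Subgroup.map_le_map_iff_of_injective e.injective).1 hS
    have h2 : ⁅S0, S0⁆ = S0 := hinj (by rw [Subgroup.map_commutator]; exact hp)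
    have h3 : S0 ≠ ⊥ := by
      rintro rfl
      exact hne (Subgroup.map_bot _)
    have h1 : (S0.subgroupOf P).IsSubnormal := by
      let f : P →* P.map e.toMonoidHom := (e.subgroupMap P).toMonoidHom
      have h4 := hsub.comap f
      have h5 : ((S0.map e.toMonoidHom).subgroupOf (P.map e.toMonoidHom)).comap f = S0.subgroupOf P := by
        ext x
        rw [Subgroup.mem_comap, Subgroup.mem_subgroupOf, Subgroup.mem_subgroupOf]
        show e (x : K) ∈ S0.map e.toMonoidHom ↔ _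
        constructor
        · rintro ⟨y, hy, hyx⟩
          have h6 : y = x := e.injective hyx
          rw [← h6]; exact hy
        · intro hx; exact ⟨_, hx, rfl⟩
      rwa [h5] at h4
    rw [← Subgroup.map_commutator, h.big S0 hS0 h1 h2 h3]
  · obtain ⟨w, hw, hi⟩ := h.idx
    refine ⟨w, ?_, ?_⟩
    · exact (Nat.card_congr (e.subgroupMap R).toEquiv).symm.le.trans hw
    · intro H hH hi2
      obtain ⟨H0, rfl⟩ := key H
      have hH0 : H0 ≤ P := (Subgroup.map_le_map_iff_of_injective e.injective).1 hH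
      rw [Subgroup.relIndex_map_map_of_injective _ _ e.injective] at hi2
      rw [hi H0 hH0 hi2]
  · intro α hodd hα
    let β : MulAut K := (e.trans α).trans e.symm
    have hβ : ∀ x, e (β x) = α (e x) := fun x => by
      show e (e.symm (α (e x))) = _
      rw [MulEquiv.apply_symm_apply]
    have hpow : ∀ (n : ℕ) x, e ((β ^ n) x) = (α ^ n) (e x) := by
      intro n
      induction n with
      | zero => intro x; rfl
      | succ n ih =>
        intro x
        rw [pow_succ, pow_succ, MulAut.mul_apply, MulAut.mul_apply, ih, hβ]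
    have hord : orderOf β ∣ orderOf α := by
      apply orderOf_dvd_of_pow_eq_one
      apply MulEquiv.ext
      intro x
      apply e.injective
      rw [hpow, pow_orderOf_eq_one]
      rfl
    have h1 : β = 1 := h.odd β (hodd.of_dvd_nat hord) (fun x hx => by
      apply e.injective
      rw [hβ]
      exact hα _ ⟨x, hx, rfl⟩)
    apply MulEquiv.ext
    intro y
    obtain ⟨x, rfl⟩ := e.surjective y
    rw [← hβ, h1]
    rfl

end

/-- the two sheets of `K ≅ Suz`, from `SheetE` -/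
theorem exists_sheets_of (h : SheetE SuzThree.CentA.z0 (Subgroup.centralizer ({SuzThree.CentA.z0} : Set Spor.Suz))
      SuzThree.QZero.Q0) (K : Type u) [Group K] (e : Cfsg.Spor.IsoSuz K) :
    ∃ (z : K) (P R : Subgroup K), SheetE z P R ∧ SheetM P R := by
  obtain ⟨e⟩ := e
  exact ⟨_, _, _, SheetIso.sheetE_map e.symm h, sheetM_map e.symm (SuzSheetM.sheetM h)⟩

/-- **the two sheets of `K ≅ Suz`** -/
theorem exists_sheets (K : Type u) [Group K] (e : Cfsg.Spor.IsoSuz K) :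
    ∃ (z : K) (P R : Subgroup K), SheetE z P R ∧ SheetM P R := exists_sheets_of SuzSheetE.sheetE K e

end Cfsg.Agent.KFacts.SuzSheets
end

-- part: OddHalf/D9/RankTwo/Core
section
set_option linter.all false
open scoped Cfsg.Agent.FastGrp

/-!
# Standard subgroups with centre of rank two: the end of the proof

`MainTI`: the theorem on weakly closed TI subgroups (`WeakTI`, S1764, S1179) in the form `Red A → InList G`.
`Rows`: the groups of characteristic 2 type in its list. `standard_false`: a standard subgroup `K` of a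
counterexample with a four-group `Z` in the centre, characteristic in `K`, is impossible as soon as `Gamma K Z`
holds: `K` has no four-group `U` of automorphisms centralizing `Z` with `C_K(u) ≤ N(U)` for all `u ∈ U#`.
-/

set_option autoImplicit false
set_option linter.style.haveILetI false

namespace Cfsg.Agent.OddHalf.D9.RankTwo.Core

open Subgroup Cfsg
open Cfsg.Agent.OddHalf.Iface
open Cfsg.Agent.OddHalf.D9.LemmaW

universe u

/-- The theorem on weakly closed TI subgroups. -/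
def MainTI : Prop :=
  ∀ (G : Type u) [Group G] [Finite G] (A : Subgroup G), WeakTI.ReduceComponent.Red A → WeakTI.ReduceMain.InList G

/-- The rows of characteristic 2 type in its list. -/
structure Rows : Prop where
  m22 : IsCharacteristicTwoType ↥Spor.M22
  m23 : IsCharacteristicTwoType ↥Spor.M23
  m24 : IsCharacteristicTwoType ↥M24
  u3 : ∀ (F : Type) [Field F] [Fintype F] (n : ℕ), 2 ≤ n → Fintype.card F = (2 ^ n) ^ 2 →
    IsCharacteristicTwoType (PSU 3 F (2 ^ n))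
  sz : ∀ (F : Type) [Field F] [Fintype F] (m : ℕ), 1 ≤ m → Fintype.card F = 2 ^ (2 * m + 1) →
    IsCharacteristicTwoType ↥(Lie.Sz F (2 ^ (m + 1)))

/-- The list of S1764 is disjoint from the counterexamples. -/
theorem not_inList {G : Type u} [Group G] (R : Rows) (C : Ctx G) (h : WeakTI.ReduceMain.InList G) : False := by
  haveI := C.fin
  haveI := C.simple
  have h2 : ∀ {H : Type} [Group H], (G ≃* H) → IsCharacteristicTwoType H → False := fun e hH =>
    C.notTwo (Small.Generic.isCharacteristicTwoType_congr e.symm hH)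
  rcases h with ⟨F, _, _, n, hF, hn, ⟨e⟩⟩ | ⟨F, _, _, m, hm, hF, ⟨e⟩⟩ | ⟨F, _, _, m, hF, ⟨e⟩⟩ | ⟨k, hk, hk', he⟩ |
    ⟨⟨e⟩⟩ | ⟨⟨e⟩⟩ | ⟨⟨e⟩⟩
  · exact C.notTwo (Small.PslChar.psl hF hn e)
  · exact h2 e (R.sz F m hm hF)
  · rcases Nat.lt_or_ge 1 m with h | h
    · refine h2 e (R.u3 F m h ?_)
      rw [hF, ← pow_mul, mul_comm, pow_mul]
      norm_num
    · have hm0 : m ≠ 0 := by
        rintro rfl
        rw [pow_zero] at hF
        have h3 : 1 < Fintype.card F := Fintype.one_lt_card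
        omega
      obtain rfl : m = 1 := by omega
      have h1 : Group.IsSolvable (PSU 3 F 2) := (S0282.result (by rw [hF]; norm_num)).2
      have h2 : Group.IsSolvable G :=
        Group.isSolvable_of_isSolvable_injective (f := (show G ≃* PSU 3 F 2 from e).toMonoidHom) e.injective
      exact C.na ⟨⟨IsSimpleGroup.comm_iff_isSolvable.2 h2⟩⟩
  · by_cases h68 : k = 5 ∨ k = 6 ∨ k = 8
    · exact C.notTwo (Small.Alt.result h68 he)
    · exact C.nc (Or.inr (Or.inl ⟨k, by omega, he⟩))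
  · exact h2 e R.m22
  · exact h2 e R.m23
  · exact h2 e R.m24

/-- No weakly closed TI subgroup in a counterexample. -/
theorem not_weaklyClosed {G : Type u} [Group G] (T : MainTI.{u}) (R : Rows) (C : Ctx G) (A : Subgroup G)
    (hA : IsElementaryAbelian 2 A) (hA1 : A ≠ ⊥)
    (hwc : ∀ a ∈ A, a ≠ 1 → ∀ g : G, A.map (MulAut.conj g).toMonoidHom ≤ centralizer ({a} : Set G) →
      A.map (MulAut.conj g).toMonoidHom = A) : False := by
  haveI := C.fin
  haveI := C.simple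
  have hne : ∃ a b : G, a * b ≠ b * a := by
    by_contra hcon
    push Not at hcon
    exact C.na ⟨⟨hcon⟩⟩
  have hw := WeakTI.Basic.wti_of_centralizer hA hA1 hwc
  exact not_inList R C (T G A (WeakTI.ToS1179.red_of_simple hne hw))

end Cfsg.Agent.OddHalf.D9.RankTwo.Core
end
end
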